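import Cfsg.Agent.SymC.Str
import Cfsg.Agent.Block.TameLoc
import Cfsg.Agent.S4698
import Mathlib.GroupTheory.SpecificGroups.Alternating.KleinFour

/-! Blocks of alternating groups: the rank bound `alt_rank` (helper16). -/
set_option autoImplicit false
set_option linter.unusedSectionVars false
open Equiv Finset Cfsg.Agent.Char Cfsg.Agent.BMod Cfsg.Agent.Block Cfsg.Agent.Transfer Cfsg.Agent.CharDeep

namespace Cfsg.Agent.SymC

variable {σ : Type*} [Fintype σ] [DecidableEq σ] {Ω : Type*} [Fintype Ω] [DecidableEq Ω] {p : ℕ} [hp : Fact p.Prime]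
variable {κ : σ → ℤ} {w : ℕ} {M : Ideal AlgInt} [PMod p M]

section
variable {G : Type*} [Group G] [Fintype G] {N : Subgroup G} [N.Normal]

theorem rank_lt_card {B : Set (IrrCharacter G)} (hB : IsPBlock M B) {D : Subgroup G} (hD : IsDefectGroup p M B D)
    (h : D ≠ ⊥) : blockRank p B < Nat.card B := by
  obtain ⟨z, hz, h1⟩ := S4698.exists_center (IsDefectGroup.isPGroup hD) h
  obtain ⟨χ, hχ⟩ := IsPBlock.nonempty hB
  obtain ⟨g, ⟨y, rfl, h2, ⟨k, hk⟩, h3⟩, h4⟩ := exists_apply_ne_zero_of_center hB hD hz hχ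
  rw [← Tame.finrank_Vs (p := p), lt_add_iff_pos_left, Module.finrank_pos_iff_exists_ne_zero]
  refine ⟨⟨χ.1 - rho p χ.1, Tame.mem_Vs.2 ⟨?_, by rw [map_sub, rho_rho, sub_self]⟩⟩, fun e => h4 ?_⟩
  · rw [← bpL_apply, map_sub, bpL_apply, bpL_apply, blockPart_rho_irr (IsPBlock.isBlockUnion hB) hχ,
      blockPart_irr_of_mem hχ]
  · have : (χ.1 - rho p χ.1) (z * y) = 0 := congrFun (congrArg Subtype.val e) (z * y)
    rwa [Pi.sub_apply, rho_apply_of_dvd, sub_zero] at this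
    rw [h2.orderOf_mul_eq_mul_orderOf_of_coprime (hk ▸ ((Nat.Prime.coprime_iff_not_dvd hp.out).2 h3).pow_left k), hk]
    exact (dvd_pow_self p fun e => h1 (by simpa [e] using hk)).mul_right _

theorem exists_cover {b : Set (IrrCharacter N)} (hb : IsPBlock M b) {D : Subgroup N} (hD : IsDefectGroup p M b D) :
    ∃ B P, IsPBlock M B ∧ Covers N B b ∧ IsDefectGroup p M B P ∧ P ⊓ N = D.map N.subtype := by
  obtain ⟨B, hB, hc⟩ := exists_covers hb
  obtain ⟨P, hP, h, -⟩ := exists_isDef_inf_eq (top_le_normalizer_of_normal N) le_top (isPrim_eB hB)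
    (isPrim_eS hb) ((covers_iff_eS hB (IsPBlock.isBlockUnion hb)).1 hc) ((isDefectGroup_iff_isDef_eS hb).1 hD)
  exact ⟨B, P, hB, hc, (isDefectGroup_iff_isDef hB).2 hP, h⟩

theorem res_two {t : G} (ht : ∀ g ∉ N, g * t ∈ N ∧ g * t⁻¹ ∈ N) {χ : IrrCharacter G} {θ : IrrCharacter N}
    (h : LiesOver N χ θ) : ∃ c : ℂ, θ.1 + conjN N t θ.1 = c • fun n : N => χ.1 n := by
  classical
  have := Fintype.ofFinite N
  have h1 := res_eq_smul_sum_conjN N χ.2 θ.2 (liesOver_iff.1 h)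
  have h2 : ∑ g, conjN N g θ.1 + ∑ g, conjN N g θ.1 = (Fintype.card G : ℂ) • (θ.1 + conjN N t θ.1) := by
    conv_lhs => enter [2]; rw [← Equiv.sum_comp (Equiv.mulRight t)]
    rw [← sum_add_distrib, sum_congr rfl (g := fun _ => θ.1 + conjN N t θ.1), sum_const, card_univ, Nat.cast_smul_eq_nsmul]
    intro g _
    by_cases hg : g ∈ N
    · rw [Equiv.coe_mulRight, conjN_mul, conjN_of_mem N θ.2.isClassFunction hg]
    · rw [Equiv.coe_mulRight, conjN_of_mem N θ.2.isClassFunction (ht g hg).1, add_comm, ← inv_mul_cancel_right g t,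
        conjN_mul, conjN_of_mem N θ.2.isClassFunction (ht g hg).2]
  generalize ha : classInner (fun n : N => χ.1 n) θ.1 / (Nat.card (inertia N θ.1) : ℂ) = a at h1
  have h3 : a ≠ 0 := ha ▸ div_ne_zero (liesOver_iff.1 h) (Nat.cast_ne_zero.2 Nat.card_pos.ne')
  have h4 : (Fintype.card G : ℂ) ≠ 0 := Nat.cast_ne_zero.2 Fintype.card_ne_zero
  refine ⟨2 / (a * Fintype.card G), ?_⟩
  rw [h1, smul_smul, ← inv_smul_smul₀ h4 (θ.1 + _), ← h2, ← two_smul ℂ, smul_smul]
  congr 1; field_simp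

end

local notation "𝐀" => alternatingGroup Ω

theorem odd_mul {t : Perm Ω} (ht : Perm.sign t = -1) : ∀ g ∉ 𝐀, g * t ∈ 𝐀 ∧ g * t⁻¹ ∈ 𝐀 := fun g hg => by
  have := (Int.units_eq_one_or (Perm.sign g)).resolve_left (mt Perm.mem_alternatingGroup.2 hg)
  simp [Perm.mem_alternatingGroup, this, ht]

theorem isIrr_res_alt (χ : IrrCharacter (Perm Ω)) {x : Perm Ω} (hx : Perm.sign x = -1) (h : χ.1 x ≠ 0) :
    IsIrrCharacter 𝐀 fun n : 𝐀 => χ.1 n := by
  have h1 : ∀ g : Perm Ω, (g : Perm Ω ⧸ 𝐀) = 1 ∨ (g : Perm Ω ⧸ 𝐀) = x := fun g => by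
    by_cases hg : g ∈ 𝐀
    · exact .inl ((QuotientGroup.eq_one_iff _).2 hg)
    · exact .inr (QuotientGroup.eq.2 (odd_mul hx _ (mt (Subgroup.inv_mem_iff _).1 hg)).1)
  refine isIrr_res_of_free (fun a b => ?_) χ fun l hl => ?_
  · obtain ⟨a, rfl⟩ := QuotientGroup.mk_surjective a
    obtain ⟨b, rfl⟩ := QuotientGroup.mk_surjective b
    rcases h1 a with h | h <;> rcases h1 b with h' | h' <;> simp [h, h']
  · ext a
    rcases h1 a with h | h <;> simp [h, hl x ‹_›]

theorem res_eq {χ : IrrCharacter (Perm Ω)} {θ : IrrCharacter 𝐀} (h : LiesOver 𝐀 χ θ) {x : Perm Ω} (hx : Perm.sign x = -1)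
    (h0 : χ.1 x ≠ 0) : (fun n : 𝐀 => χ.1 n) = θ.1 := by
  by_contra hn
  have := Fintype.ofFinite 𝐀
  exact liesOver_iff.1 h (IsIrrCharacter.classInner_eq_zero_of_ne (isIrr_res_alt χ hx h0) θ.2 hn)

theorem sign_type {x : Perm Ω} (h : x.cycleType = Multiset.replicate w 2) : Perm.sign x = (-1) ^ w := by
  rw [Perm.sign_of_cycleType, h]; simp [pow_add, mul_comm w 2, pow_mul]

variable {B : Set (IrrCharacter (Perm Ω))} {b : Set (IrrCharacter (alternatingGroup Ω))} {P : Subgroup (Perm Ω)}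
  {D : Subgroup (alternatingGroup Ω)}

theorem le_alt (hp2 : p ≠ 2) (hP : IsPGroup p P) : P ≤ 𝐀 := fun g hg => by
  obtain ⟨k, hk⟩ := orderOf_eq_pow_of_mem hP hg
  have := congrArg Perm.sign (pow_orderOf_eq_one g)
  rwa [map_pow, map_one, hk, Int.units_pow_eq_pow_mod_two, Nat.odd_iff.1 (hp.out.odd_of_ne_two hp2).pow, pow_one] at this

theorem rank_alt {s : ℕ} (hs : SectionalPRankLE p s D) (h : P ⊓ 𝐀 = D.map (𝐀).subtype) {K : Type*} [Group K]
    (φ : K →* Perm Ω) (hφ : Function.Injective φ) (h1 : ∀ a, φ a ∈ P) (h2 : ∀ a, φ a ∈ 𝐀)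
    (hc : ∀ a b : K, a * b = b * a) (he : ∀ a : K, a ^ p = 1) : Nat.card K ≤ p ^ s :=
  rank_le hs (φ.codRestrict 𝐀 h2) (fun _ _ e => hφ (congrArg Subtype.val e)) (fun a => by
    obtain ⟨d, hd, e⟩ := h.le ⟨h1 a, h2 a⟩
    exact (Subtype.ext e : d = φ.codRestrict 𝐀 h2 a) ▸ hd) hc he

theorem exists_odd {y x : Perm Ω} (hP : IsSylowIn 2 P (Subgroup.centralizer {y}))
    (hx : x.cycleType = Multiset.replicate w 2) (h : ∀ a ∈ x.support, y a = a) (hw : 0 < w) :
    ∃ t ∈ P, Perm.sign t = -1 := by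
  obtain ⟨φ, -, h2, h3⟩ := exists_hom hP hx h (k := 2) (m := 1) (by omega) (H := ⊤)
    (IsPGroup.of_card (n := 1) (by simp [Fintype.card_perm]))
  exact ⟨_, h2 fun _ => ⟨swap 0 1, trivial⟩, by simp [h3]⟩

theorem card_two (h : P ⊓ 𝐀 = D.map (𝐀).subtype) {t : Perm Ω} (ht : t ∈ P) (h1 : Perm.sign t = -1) :
    Nat.card P = 2 * Nat.card D := by
  have h2 : ((𝐀).subgroupOf P).index = 2 := Subgroup.index_eq_two_iff.2 ⟨⟨t, ht⟩, fun g => by
    simp only [Subgroup.mem_subgroupOf, Perm.mem_alternatingGroup, Subgroup.coe_mul, map_mul, h1]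
    rcases Int.units_eq_one_or (Perm.sign g.1) with e | e <;> simp [e]⟩
  rw [← ((𝐀).subgroupOf P).index_mul_card, h2, ← Subgroup.inf_subgroupOf_right,
    Nat.card_congr (Subgroup.subgroupOfEquivOfLe inf_le_right).toEquiv, inf_comm, h, Subgroup.card_subtype]

theorem rank_V4 {s : ℕ} (hs : SectionalPRankLE 2 s D) (h : P ⊓ 𝐀 = D.map (𝐀).subtype) {y x : Perm Ω}
    (hP : IsSylowIn 2 P (Subgroup.centralizer {y})) (hx : x.cycleType = Multiset.replicate w 2)
    (hy : ∀ a ∈ x.support, y a = a) : 2 ^ (2 * (w / 2)) ≤ 2 ^ s := by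
  have h4 : Nat.card (Fin 4) = 4 := by simp
  let H := (alternatingGroup.kleinFour (Fin 4)).map (alternatingGroup (Fin 4)).subtype
  have h1 : Nat.card H = 4 := by rw [Subgroup.card_subtype, alternatingGroup.kleinFour_card_of_card_eq_four h4]
  have h2 : ∀ a : H, a ^ 2 = 1 := by
    rintro ⟨_, a, ha, rfl⟩
    have := Monoid.pow_exponent_eq_one (⟨a, ha⟩ : alternatingGroup.kleinFour (Fin 4))
    rw [alternatingGroup.exponent_kleinFour_of_card_eq_four h4] at this
    exact Subtype.ext (congrArg (fun t => t.1.1) this)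
  obtain ⟨φ, h5, h6, h7⟩ := exists_hom hP hx hy (k := 4) (m := w / 2) (by omega) (H := H)
    (IsPGroup.of_card (n := 2) h1)
  have h8 : ∀ a : Fin (w / 2) → H, a ^ 2 = 1 := fun a => funext fun i => h2 _
  have := rank_alt hs h φ h5 h6 (fun a => by
    rw [Perm.mem_alternatingGroup, h7]
    exact prod_eq_one fun i _ => by obtain ⟨c, -, e⟩ := (a i).2; exact e ▸ c.2) (fun a b =>
      (Commute.of_orderOf_dvd_two (fun g => orderOf_dvd_of_pow_eq_one (h8 g)) a b).eq) h8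
  simpa [Nat.card_pi, h1, pow_mul] using this

theorem alt_rank (hb : IsPBlock M b) (hD : IsDefectGroup p M b D) (h1 : D ≠ ⊥) {s : ℕ} (hs : SectionalPRankLE p s D) :
    blockRank p b < p ^ s := by
  classical
  obtain ⟨B, P, hB, hcov, hP, hPD⟩ := exists_cover hb hD
  have hN : 2 * Fintype.card Ω ≤ Fintype.card (Fin (2 * Fintype.card Ω)) := by simp
  obtain ⟨κ, w, hκ, hc⟩ := exists_cls (p := p) hN hB
  obtain ⟨y, Y, hy, h2, h3, h4, h5⟩ := exists_struct hB hκ hc hP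
  obtain ⟨x, h6, h7⟩ := exists_type_SY' Y h3.ge
  have h8 : ∀ a ∈ x.support, y a = a := fun a ha => h4 a (by_contra fun e => Perm.mem_support.1 ha (h6 a e))
  have hw : 0 < w := weight_pos hB hκ hc hP fun e => h1 (by
    rwa [e, bot_inf_eq, eq_comm, Subgroup.map_eq_bot_iff_of_injective _ (𝐀).subtype_injective] at hPD)
  have h9 := card_sylow_SY h5 h3.ge (by simp [h3, hp.out.pos])
  obtain ⟨V, hV1, hV2⟩ := exists_span hN hκ
  let W := V.map (LinearMap.funLeft ℂ ℂ (𝐀).subtype)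
  have hW1 : Module.finrank ℂ W ≤ _ := (Submodule.finrank_map_le _ _).trans hV1
  have hW2 : ∀ χ ∈ B, rho p (fun n : 𝐀 => χ.1 n) ∈ W := fun χ hχ => ⟨_, hV2 _ (hc χ hχ), rho_res _ _⟩
  have : Nontrivial Ω := Fintype.one_lt_card_iff_nontrivial.1 (by have := hκ.le; have := hp.out.two_le; nlinarith)
  obtain ⟨u, v, huv⟩ := exists_pair_ne Ω
  have ht := Perm.sign_swap huv
  have hl : blockRank p b ≤ 2 * (MS (Fin (p - 1)) w).ncard :=
    (rank_le_two_mul (IsPBlock.isBlockUnion hb) (MulAut.conjNormal (swap u v)) 1 (fun a => by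
      ext1; simp [← mul_assoc]) W fun θ hθ => by
      obtain ⟨χ, hχ, h⟩ := Covers.exists_liesOver hcov hB hb hθ
      obtain ⟨c, e⟩ := res_two (odd_mul ht) h
      rw [← conjN_eq_comp, e, map_smul]
      exact W.smul_mem _ (hW2 χ hχ)).trans (Nat.mul_le_mul_left _ hW1)
  have hsm : ∀ d ≤ 2, Nat.card D = p ^ d → blockRank p b < p ^ d := fun d hd e => by
    have := Nat.pow_right_injective hp.out.two_le ((IsDefectGroup.card_eq hb hD).symm.trans e)
    exact (rank_lt_card hb hD h1).trans_le (this ▸ S4698.small hb (this ▸ hd))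
  have hbig : 3 ≤ w → 2 * (MS (Fin (p - 1)) w).ncard < p ^ w := fun h => by
    simpa [Nat.sub_add_cancel hp.out.pos] using two_ncard_lt (C := Fin (p - 1)) h
  by_cases hp2 : p = 2
  · subst hp2
    have h10 := rank_V4 hs hPD h2 h7 h8
    obtain ⟨t, h11, h12⟩ := exists_odd h2 h7 h8 hw
    have h13 := card_two hPD h11 h12
    replace h13 := h9.symm.trans h13
    obtain rfl | rfl | h : w = 1 ∨ w = 2 ∨ 3 ≤ w := by omega
    · exact absurd (Subgroup.card_eq_one.1 (by rw [Nat.factorial_one, padicValNat_one_right] at h13; omega)) h1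
    · exact (hsm 2 le_rfl (by rw [Nat.factorial_two, padicValNat_self] at h13; omega)).trans_le h10
    refine lt_of_lt_of_le ?_ h10
    rcases Nat.even_or_odd' w with ⟨k, rfl | rfl⟩
    · rw [show 2 * k / 2 = k by omega]; exact hl.trans_lt (hbig h)
    · have h14 : blockRank 2 b ≤ Module.finrank ℂ W := Submodule.finrank_mono (Submodule.span_le.2 (by
        rintro _ ⟨θ, hθ, rfl⟩
        obtain ⟨χ, hχ, h⟩ := Covers.exists_liesOver hcov hB hb hθ
        have := hW2 χ hχ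
        rwa [res_eq h (by rw [sign_type h7]; simp [pow_succ]) (hκ.ne_zero (hc χ hχ) h7)] at this))
      have := hbig h
      rw [show (2 * k + 1) / 2 = k by omega]
      rw [pow_succ] at this; omega
  · have h10 := le_alt hp2 h2.isPGroup
    obtain ⟨A, h11, h12, h13, h14⟩ := exists_elem h2 h7 h8
    refine lt_of_lt_of_le ?_ (h12 ▸ rank_alt hs hPD A.subtype A.subtype_injective (fun a => h11 a.2) (fun a => h10 (h11 a.2))
      (fun a b => Subtype.ext (h13 _ a.2 _ b.2)) fun a => Subtype.ext (h14 _ a.2))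
    rcases le_or_gt 3 w with h | h
    · exact hl.trans_lt (hbig h)
    refine hsm w (by omega) ?_
    rw [← Subgroup.card_subtype, ← hPD, inf_eq_left.2 h10, h9, padicValNat.eq_zero_of_not_dvd, add_zero]
    rw [hp.out.dvd_factorial]
    have := hp.out.two_le; omega

end Cfsg.Agent.SymC
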