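import Cfsg.Agent.SymC.Sep
import Cfsg.Agent.BMod.Misc
import Cfsg.Prelude.Def_CaseTheorems

/-! Defect groups of blocks of symmetric groups (helper16): a defect class has at least `p w` fixed points
(`exists_fix`), embeddings of direct powers (`emb`), the rank bounds. -/
set_option autoImplicit false
set_option linter.unusedSectionVars false
open Equiv Finset Cfsg.Agent.Char Cfsg.Agent.BMod Cfsg.Agent.Block Cfsg.Agent.Transfer

namespace Cfsg.Agent.SymC

variable {σ : Type*} [Fintype σ] [DecidableEq σ] {Ω : Type*} [Fintype Ω] [DecidableEq Ω] {p : ℕ} [hp : Fact p.Prime]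

/-- the base group of the centraliser -/
def Ex (x : Perm Ω) : Subgroup (Perm Ω) where
  carrier := {g | Commute g x ∧ ∀ a, x.SameCycle a (g a)}
  one_mem' := ⟨Commute.one_left x, fun a => Perm.SameCycle.refl _ _⟩
  mul_mem' := fun {g h} hg hh => ⟨hg.1.mul_left hh.1, fun a => (hh.2 a).trans (hg.2 _)⟩
  inv_mem' := fun {g} hg => ⟨hg.1.inv_left, fun a => by simpa using (hg.2 (g⁻¹ a)).symm⟩

theorem pow_apply_of {g x : Perm Ω} (h : Commute g x) {a : Ω} {i : ℤ} (e : (x ^ i) a = g a) (n : ℕ) :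
    (g ^ n) a = (x ^ (i * n)) a := by
  induction n with
  | zero => simp
  | succ n ih =>
    rw [pow_succ', Perm.mul_apply, ih, ← Perm.mul_apply, (h.zpow_right _).eq, Perm.mul_apply, ← e, ← Perm.mul_apply,
      ← zpow_add]
    congr 2; push_cast; ring

theorem pow_fix {g x : Perm Ω} (h : Commute g x) (hx : x ^ p = 1) {a : Ω} (e : x.SameCycle a (g a)) : (g ^ p) a = a := by
  obtain ⟨i, e⟩ := e
  rw [pow_apply_of h e, mul_comm, zpow_mul, zpow_natCast, hx, one_zpow, Perm.one_apply]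

theorem fix_of_pow {g : Perm Ω} (hg : ¬ p ∣ orderOf g) {a : Ω} (h : (g ^ p) a = a) : g a = a := by
  obtain ⟨m, hm⟩ := exists_pow_eq_self_of_coprime (x := g) ((Nat.Prime.coprime_iff_not_dvd hp.out).2 hg)
  rw [← hm]; exact Perm.pow_apply_eq_self_of_apply_eq_self h m

theorem Ex_pow {x : Perm Ω} (hx : x ^ p = 1) {g : Perm Ω} (hg : g ∈ Ex x) : g ^ p = 1 :=
  Perm.ext fun a => pow_fix hg.1 hx (hg.2 a)

theorem Ex_pgroup {x : Perm Ω} (hx : x ^ p = 1) : IsPGroup p (Ex x) := fun g =>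
  ⟨1, Subtype.ext (by simpa using Ex_pow hx g.2)⟩

theorem Ex_norm (x : Perm Ω) : Subgroup.centralizer (Subgroup.zpowers x : Set (Perm Ω)) ≤
    Subgroup.normalizer (Ex x : Set (Perm Ω)) := by
  have h : ∀ c g, Commute c x → g ∈ Ex x → c * g * c⁻¹ ∈ Ex x := fun c g hc hg =>
    ⟨(hc.mul_left hg.1).mul_left hc.inv_left, fun a => by
      simpa [hc.eq] using (hg.2 (c⁻¹ a)).conj (g := c)⟩
  intro c hc
  have hc' : Commute c x := (hc x (Subgroup.mem_zpowers x)).symm
  exact Subgroup.mem_normalizer_iff.2 fun g => ⟨h c g hc', fun hg => by simpa [mul_assoc] using h _ _ hc'.inv_left hg⟩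

theorem cycleOf_mem_Ex (x : Perm Ω) (a : Ω) : x.cycleOf a ∈ Ex x := by
  refine ⟨?_, fun b => ?_⟩
  · ext b
    simp only [Perm.mul_apply, Perm.cycleOf_apply, Perm.sameCycle_apply_right]
    split_ifs <;> rfl
  · rw [Perm.cycleOf_apply]; split_ifs
    · exact Perm.sameCycle_apply_right.2 (Perm.SameCycle.refl _ _)
    · exact Perm.SameCycle.refl _ _

theorem fix_of_Ex {x y : Perm Ω} (hx : x ^ p = 1) (hy : ¬ p ∣ orderOf y) (h : ∀ g ∈ Ex x, Commute y g) {a : Ω}
    (ha : x a ≠ a) : y a = a := by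
  have h1 : Commute y x := h x ⟨Commute.refl x, fun a => Perm.sameCycle_apply_right.2 (Perm.SameCycle.refl _ _)⟩
  refine fix_of_pow hy (pow_fix h1 hx ?_)
  by_contra hn
  have := DFunLike.congr_fun (h _ (cycleOf_mem_Ex x a)).eq a
  rw [Perm.mul_apply, Perm.mul_apply, Perm.cycleOf_apply_self, Perm.cycleOf_apply_of_not_sameCycle hn] at this
  exact ha (y.injective this)

theorem pow_eq_one_of_type {x : Perm Ω} {w : ℕ} (h : x.cycleType = Multiset.replicate w p) : x ^ p = 1 := by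
  rw [← orderOf_dvd_iff_pow_eq_one, ← Perm.lcm_cycleType, Multiset.lcm_dvd]
  exact fun b hb => (Multiset.eq_of_mem_replicate (h ▸ hb)).dvd

theorem isPPart_self {G : Type*} [Group G] {x : G} (h : x ^ p = 1) : IsPPart p x x := by
  refine ⟨1, by simp, Commute.one_right x, ?_, by simpa [IsPRegular] using hp.out.ne_one⟩
  obtain ⟨k, -, hk⟩ := (Nat.dvd_prime_pow hp.out (m := 1)).1 (by simpa using orderOf_dvd_of_pow_eq_one h)
  exact ⟨k, hk⟩

variable {κ : σ → ℤ} {w : ℕ}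

theorem card_support_type {x : Perm Ω} (h : x.cycleType = Multiset.replicate w p) : #x.support = p * w := by
  rw [← Perm.sum_cycleType, h]; simp [mul_comm]

theorem Core.ne_zero (hκ : Core p Ω κ w) {χ : IrrCharacter (Perm Ω)} (h : Cls p κ χ.1) {x : Perm Ω}
    (hx : x.cycleType = Multiset.replicate w p) : χ.1 x ≠ 0 := by
  obtain ⟨α, ε, h1, h2⟩ := h
  obtain ⟨h3, η, h4⟩ := hκ.val (cf_th h1).1 (cf_th h1).2 h2
  have := h4 x _ (by rw [Perm.parts_partition, hx])
  intro h0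
  rw [h1, Pi.smul_apply, h0, smul_zero] at this
  exact mul_ne_zero (mul_ne_zero (by simp) (Nat.cast_ne_zero.2 h3.ne'))
    (hκ.T_ne (by rw [card_support_type hx]; have := hκ.le; omega)) this.symm

variable {M : Ideal AlgInt} [PMod p M] {B : Set (IrrCharacter (Perm Ω))}

theorem exists_fix (hB : IsPBlock M B) (hκ : Core p Ω κ w) (hc : ∀ χ ∈ B, Cls p κ χ.1) {D : Subgroup (Perm Ω)}
    (hD : IsDefectGroup p M B D) {y : Perm Ω} (hy : IsDefectClass M B y) (hDy : D ≤ Subgroup.centralizer {y}) :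
    ∃ x : Perm Ω, x.cycleType = Multiset.replicate w p ∧ ∀ a ∈ x.support, y a = a := by
  obtain ⟨x, hx⟩ := (Perm.exists_with_cycleType_iff Ω (m := Multiset.replicate w p)).2
    ⟨by simpa [mul_comm] using hκ.le, fun a ha => Multiset.eq_of_mem_replicate ha ▸ hp.out.two_le⟩
  have h1 := pow_eq_one_of_type hx
  obtain ⟨χ, hχ⟩ := IsPBlock.nonempty hB
  have h2 : br (Subgroup.zpowers x) (eB M B) ≠ 0 := fun h0 => hκ.ne_zero (hc χ hχ) hx
    (apply_eq_zero_of_br (IsPBlock.isBlockUnion hB) hχ (isPPart_self h1) h0)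
  have h3 : Subgroup.zpowers x ≤ Ex x := by
    rw [Subgroup.zpowers_le]; exact ⟨Commute.refl x, fun a => Perm.sameCycle_apply_right.2 (Perm.SameCycle.refl _ _)⟩
  rw [← br_idem_eq_self (p := p) (Ex_pgroup h1) (fun g hg => by
      rw [centralizer_zpowers]; simpa [Subgroup.mem_centralizer_iff] using hg.1.symm.eq) (Ex_norm x) le_rfl
    (br_idem ((Ex_pgroup h1).to_le h3) (isPrim_eB hB).idem (eB_mem_fix B _))
    (br_mem_Zc_centralizer (eB_mem_fix B _)), br_br h3] at h2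
  obtain ⟨k, -, hk⟩ := (((isDefectGroup_iff_isDef hB).1 hD).br_ne_zero_iff (eB_mem_fix B _) le_top (Ex_pgroup h1)).1 h2
  refine ⟨k * x * k⁻¹, by rw [Perm.cycleType_conj, hx], fun a ha => ?_⟩
  have := fix_of_Ex (y := k⁻¹ * y * k) h1 (by
    rw [← (show SemiconjBy k⁻¹ y (k⁻¹ * y * k) by simp [SemiconjBy]).orderOf_eq]; exact IsDefectClass.not_dvd hB hy) (fun g hg => by
      have := (Subgroup.mem_centralizer_singleton_iff.1 (hDy (hk (conj_mem_sc.2 hg))))
      have := congrArg (fun t => k⁻¹ * t * k) this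
      simpa [Commute, SemiconjBy, mul_assoc] using this.symm) (a := k⁻¹ a) fun e =>
    Perm.mem_support.1 ha (by rw [Perm.mul_apply, Perm.mul_apply, e]; simp)
  simpa using this

/-- permutations supported in `Y` -/
def SY (Y : Finset Ω) : Subgroup (Perm Ω) where
  carrier := {g | ∀ a ∉ Y, g a = a}
  one_mem' := fun _ _ => rfl
  mul_mem' := fun {g h} hg hh a ha => by rw [Perm.mul_apply, hh a ha, hg a ha]
  inv_mem' := fun {g} hg a ha => by rw [Perm.inv_eq_iff_eq, hg a ha]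

theorem SY_le {Y : Finset Ω} {y : Perm Ω} (h : ∀ a ∈ Y, y a = a) : SY Y ≤ Subgroup.centralizer {y} := fun g hg => by
  rw [Subgroup.mem_centralizer_singleton_iff]
  refine (Perm.Disjoint.commute fun a => ?_).eq
  by_cases ha : a ∈ Y
  exacts [.inr (h a ha), .inl (hg a ha)]

theorem exists_emb (Y : Finset Ω) {k m : ℕ} (h : m * k ≤ #Y) : ∃ φ : (Fin m → Perm (Fin k)) →* Perm Ω,
    Function.Injective φ ∧ φ.range ≤ SY Y ∧ ∀ f, Perm.sign (φ f) = ∏ i, Perm.sign (f i) := by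
  classical
  obtain ⟨e⟩ : Nonempty (Fin m × Fin k ↪ Y) := Function.Embedding.nonempty_of_card_le (by simpa using h)
  let ψ : (Fin m → Perm (Fin k)) →* Perm (Fin m × Fin k) := MonoidHom.mk' (fun f => prodCongrRight f) fun f g => by
    ext <;> simp
  refine ⟨(Perm.viaEmbeddingHom (e.trans (.subtype _))).comp ψ, (Perm.viaEmbeddingHom_injective _).comp fun f g e => ?_,
    ?_, fun f => ?_⟩
  · funext i; ext j
    simpa [ψ, Fin.ext_iff] using DFunLike.congr_fun e (i, j)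
  · rintro _ ⟨f, rfl⟩ a ha
    exact Perm.viaEmbedding_apply_of_notMem _ _ _ (by rintro ⟨b, rfl⟩; exact ha (e b).2)
  · rw [← Perm.sign_prodCongrRight]
    have := Perm.sign_extendDomain (ψ f) (ofInjective _ (e.trans (.subtype _)).2)
    change Perm.sign (Perm.viaEmbedding (ψ f) _) = Perm.sign (ψ f)
    unfold Perm.viaEmbedding
    convert this

theorem rank_le {G K : Type*} [Group G] [Finite G] [Group K] {D : Subgroup G} {s : ℕ} (hs : SectionalPRankLE p s D)
    (φ : K →* G) (hφ : Function.Injective φ) (hD : ∀ a, φ a ∈ D) (hc : ∀ a b : K, a * b = b * a) (he : ∀ a : K, a ^ p = 1) :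
    Nat.card K ≤ p ^ s := by
  let ψ : K →* (⊤ : Subgroup D) ⧸ (⊥ : Subgroup (⊤ : Subgroup D)) :=
    (QuotientGroup.mk' _).comp (Subgroup.topEquiv.symm.toMonoidHom.comp (φ.codRestrict D hD))
  have h1 : Function.Injective ψ := by
    refine (injective_iff_map_eq_one ψ).2 fun a ha => (injective_iff_map_eq_one φ).1 hφ a ?_
    have := (QuotientGroup.eq_one_iff _).1 ha
    exact congrArg (fun t => t.1.1) (Subgroup.mem_bot.1 this)
  rw [Nat.card_congr (ψ.ofInjective h1).toEquiv]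
  refine hs ⊤ ⊥ _ ⟨⟨?_⟩⟩ ?_
  · rintro ⟨_, a, rfl⟩ ⟨_, b, rfl⟩
    exact Subtype.ext (by simp [← map_mul, hc a b])
  · rintro _ ⟨a, rfl⟩
    rw [← map_pow, he, map_one]

/-- a power of a `p`-subgroup of `S_k` embeds in a defect group -/
theorem exists_hom {D : Subgroup (Perm Ω)} {y x : Perm Ω} (hD : IsSylowIn p D (Subgroup.centralizer {y}))
    (hx : x.cycleType = Multiset.replicate w p) (h : ∀ a ∈ x.support, y a = a) {k m : ℕ} (hk : m * k ≤ p * w)
    {H : Subgroup (Perm (Fin k))} (hH : IsPGroup p H) : ∃ φ : (Fin m → H) →* Perm Ω, Function.Injective φ ∧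
      (∀ a, φ a ∈ D) ∧ ∀ f, Perm.sign (φ f) = ∏ i, Perm.sign (f i).1 := by
  obtain ⟨φ, h1, h2, h3⟩ := exists_emb x.support (hk.trans (card_support_type hx).ge)
  let ψ := φ.comp (H.subtype.compLeft (Fin m))
  have h4 : IsPGroup p (Fin m → H) := by
    obtain ⟨j, hj⟩ := IsPGroup.iff_card.1 hH
    exact IsPGroup.of_card (n := j * m) (by simp [Nat.card_pi, hj, pow_mul])
  obtain ⟨u, -, hu⟩ := hD.exists_conj_le (Q := ψ.range) (h4.of_surjective _ ψ.rangeRestrict_surjective)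
    fun g ⟨f, e⟩ => SY_le h (h2 ⟨_, e⟩)
  refine ⟨(MulAut.conj u).toMonoidHom.comp ψ, (MulAut.conj u).injective.comp (h1.comp fun f g e =>
    funext fun i => Subtype.ext (congrFun e i)), fun a => hu (Subgroup.smul_mem_pointwise_smul _ _ _ ⟨a, rfl⟩), fun f => ?_⟩
  simp [ψ, h3, mul_comm (Perm.sign u), mul_assoc]

theorem exists_Cp : ∃ H : Subgroup (Perm (Fin p)), Nat.card H = p := by
  obtain ⟨g, hg⟩ := exists_prime_orderOf_dvd_card (G := Perm (Fin p)) p (by
    simp [Fintype.card_perm, Nat.dvd_factorial hp.out.pos])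
  exact ⟨Subgroup.zpowers g, by rw [Nat.card_zpowers, hg]⟩

theorem exists_elem {D : Subgroup (Perm Ω)} {y x : Perm Ω} (hD : IsSylowIn p D (Subgroup.centralizer {y}))
    (hx : x.cycleType = Multiset.replicate w p) (h : ∀ a ∈ x.support, y a = a) :
    ∃ A ≤ D, Nat.card A = p ^ w ∧ (∀ a ∈ A, ∀ b ∈ A, a * b = b * a) ∧ ∀ a ∈ A, a ^ p = 1 := by
  obtain ⟨H, hH⟩ := exists_Cp (p := p)
  obtain ⟨φ, h1, h2, -⟩ := exists_hom hD hx h (m := w) (mul_comm w p).le (IsPGroup.of_card (n := 1) (by simpa using hH))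
  have := isCyclic_of_prime_card hH
  refine ⟨φ.range, fun _ ⟨a, e⟩ => e ▸ h2 a, by rw [← Nat.card_congr (φ.ofInjective h1).toEquiv]; simp [Nat.card_pi, hH],
    ?_, ?_⟩
  · rintro _ ⟨a, rfl⟩ _ ⟨b, rfl⟩
    rw [← map_mul, ← map_mul, show a * b = b * a from funext fun i => IsCyclic.isMulCommutative.1.1 _ _]
  · rintro _ ⟨a, rfl⟩
    rw [← map_pow, show a ^ p = 1 from funext fun i => by simpa [hH] using pow_card_eq_one' (x := a i), map_one]

theorem filter_support {v y : Perm Ω} (h : Commute v y) (hv : ∃ k, orderOf v = p ^ k) (hy : ¬ p ∣ orderOf y) :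
    #v.support ≤ ((v * y).partition.parts.filter (p ∣ ·)).sum := by
  obtain ⟨i, hi⟩ := IsPPart.mem_zpowers (p := p) (g := v * y) ⟨y, rfl, h, hv, hy⟩
  generalize v * y = g at hi
  simp only at hi
  rw [Perm.parts_partition, Multiset.filter_add, Multiset.sum_add]
  refine le_add_right ?_
  rw [Perm.cycleType_def, Multiset.filter_map, ← filter_val, ← sum_eq_multiset_sum]
  refine (card_le_card fun a ha => ?_).trans card_biUnion_le
  have h1 : a ∈ g.support := by
    rw [Perm.mem_support] at ha ⊢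
    exact fun e => ha (hi ▸ Perm.zpow_apply_eq_self_of_apply_eq_self e i)
  refine mem_biUnion.2 ⟨g.cycleOf a, mem_filter.2 ⟨Perm.cycleOf_mem_cycleFactorsFinset_iff.2 h1, ?_⟩,
    Perm.mem_support_cycleOf_iff.2 ⟨.refl _ _, h1⟩⟩
  by_contra hn
  have h2 : (g ^ #(g.cycleOf a).support) a = a := by
    rw [← Perm.pow_mod_card_support_cycleOf_self_apply, Nat.mod_self]; rfl
  obtain ⟨k, hk⟩ := hv
  obtain ⟨m, hm⟩ := exists_pow_eq_self_of_coprime (x := v) (n := #(g.cycleOf a).support)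
    (hk ▸ ((Nat.Prime.coprime_iff_not_dvd hp.out).2 hn).symm.pow_right k)
  refine Perm.mem_support.1 ha (hm ▸ Perm.pow_apply_eq_self_of_apply_eq_self ?_ m)
  rw [← hi, ← zpow_natCast, ← zpow_mul, mul_comm, zpow_mul, zpow_natCast]
  exact Perm.zpow_apply_eq_self_of_apply_eq_self h2 i

theorem support_le (hB : IsPBlock M B) (hκ : Core p Ω κ w) (hc : ∀ χ ∈ B, Cls p κ χ.1) {y v : Perm Ω}
    (hy : IsDefectClass M B y) (h : Commute v y) (hv : ∃ k, orderOf v = p ^ k) : #v.support ≤ p * w := by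
  obtain ⟨ψ, hψ, h0⟩ := exists_height_zero p (IsPBlock.nonempty hB)
  refine (filter_support h hv (IsDefectClass.not_dvd hB hy)).trans ((hc ψ hψ).sum_le hκ (ne_zero_of_red_ne_zero (M := M) ?_))
  rw [red_apply_mul_eq ψ.2.isCharacter hv h]
  exact (IsDefectClass.height_eq_zero_iff hB hy hψ).1 h0

theorem weight_pos (hB : IsPBlock M B) (hκ : Core p Ω κ w) (hc : ∀ χ ∈ B, Cls p κ χ.1) {D : Subgroup (Perm Ω)}
    (hD : IsDefectGroup p M B D) (h1 : D ≠ ⊥) : 0 < w := by
  obtain ⟨y, hy, h2⟩ := IsDefectGroup.exists_class hD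
  obtain ⟨⟨v, hv⟩, h3⟩ := Subgroup.ne_bot_iff_exists_ne_one.1 h1
  have := support_le hB hκ hc hy (Subgroup.mem_centralizer_singleton_iff.1 (h2.le hv)) (orderOf_eq_pow_of_mem h2.isPGroup hv)
  refine Nat.pos_of_ne_zero fun e => h3 (Subtype.ext ?_)
  simpa [e] using this

theorem rank_le_MS (hN : 2 * Fintype.card Ω ≤ Fintype.card σ) (hκ : Core p Ω κ w) {A : Set (IrrCharacter (Perm Ω))}
    (hc : ∀ χ ∈ A, Cls p κ χ.1) : blockRank p A ≤ (MS (Fin (p - 1)) w).ncard := by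
  obtain ⟨V, h1, h2⟩ := exists_span hN hκ
  refine le_trans (Submodule.finrank_mono (Submodule.span_le.2 ?_)) h1
  rintro _ ⟨χ, hχ, rfl⟩
  exact h2 _ (hc χ hχ)

theorem rank_le' {G : Type*} [Group G] [Finite G] {D A : Subgroup G} {s : ℕ} (hs : SectionalPRankLE p s D) (h : A ≤ D)
    (hc : ∀ a ∈ A, ∀ b ∈ A, a * b = b * a) (he : ∀ a ∈ A, a ^ p = 1) : Nat.card A ≤ p ^ s :=
  rank_le hs A.subtype A.subtype_injective (fun a => h a.2) (fun a b => Subtype.ext (hc _ a.2 _ b.2))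
    fun a => Subtype.ext (he _ a.2)

theorem sym_rank (hB : IsPBlock M B) {D : Subgroup (Perm Ω)} (hD : IsDefectGroup p M B D) (h1 : D ≠ ⊥) {s : ℕ}
    (hs : SectionalPRankLE p s D) : blockRank p B < p ^ s := by
  have hN : 2 * Fintype.card Ω ≤ Fintype.card (Fin (2 * Fintype.card Ω)) := by simp
  obtain ⟨κ, w, hκ, hc⟩ := exists_cls (p := p) hN hB
  obtain ⟨y, hy, h2⟩ := IsDefectGroup.exists_class hD
  obtain ⟨x, h3, h4⟩ := exists_fix hB hκ hc hD hy h2.le
  obtain ⟨A, h5, h6, h7, h8⟩ := exists_elem h2 h3 h4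
  have := ncard_lt (C := Fin (p - 1)) (weight_pos hB hκ hc hD h1)
  rw [Fintype.card_fin, Nat.sub_add_cancel hp.out.pos] at this
  exact ((rank_le_MS hN hκ hc).trans_lt this).trans_le (h6 ▸ rank_le' hs h5 h7 h8)

end Cfsg.Agent.SymC
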