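import Cfsg.Agent.SymC.Fock
import Cfsg.Agent.Char.Second

/-! Frobenius' formula (helper16): the functions `th σ α` on `Perm Ω` are, up to sign, the irreducible characters. -/
set_option autoImplicit false
set_option linter.unusedSectionVars false
open Equiv Finset Cfsg.Agent.Char
open scoped ComplexConjugate

namespace Cfsg.Agent.SymC

variable {σ : Type*} [Fintype σ] [DecidableEq σ] {Ω : Type*} [Fintype Ω] [DecidableEq Ω]

/-- minus the content of a function -/
def ct (f : Ω → σ) : σ → ℤ := ∑ x, Pi.single (f x) (-1)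

theorem ct_comp (f : Ω → σ) (g : Perm Ω) : ct (f ∘ g) = ct f := Equiv.sum_comp g fun x => (Pi.single (f x) (-1) : σ → ℤ)

theorem prod_single {ι : Type*} (s : Finset ι) (v : ι → σ → ℤ) :
    ∏ i ∈ s, (AddMonoidAlgebra.single (v i) 1 : R σ) = AddMonoidAlgebra.single (∑ i ∈ s, v i) 1 := by
  classical
  induction s using Finset.induction_on with
  | empty => simp [AddMonoidAlgebra.one_def]
  | insert i s h ih => rw [prod_insert h, sum_insert h, ih, AddMonoidAlgebra.single_mul_single, one_mul]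

theorem prod_P {ι : Type*} [Fintype ι] [DecidableEq ι] (π : Ω → ι) :
    ∏ o, (P univ (-((univ.filter fun x => π x = o).card : ℤ)) : R σ) =
      ∑ φ : ι → σ, AddMonoidAlgebra.single (ct (φ ∘ π)) 1 := by
  simp only [P]
  rw [prod_univ_sum, Fintype.piFinset_univ]
  refine sum_congr rfl fun φ _ => ?_
  rw [prod_single, ct, ← sum_fiberwise (s := univ) π]
  congr 1
  refine sum_congr rfl fun o _ => ?_
  rw [sum_congr rfl (g := fun _ => Pi.single (φ o) (-1)) fun x hx => by rw [Function.comp, (mem_filter.1 hx).2], sum_const,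
    ← Pi.single_smul']
  simp

/-- the orbit of a point -/
def orb (g : Perm Ω) (x : Ω) : g.cycleFactorsFinset ⊕ {x // x ∉ g.support} :=
  if h : x ∈ g.support then .inl ⟨g.cycleOf x, Perm.cycleOf_mem_cycleFactorsFinset_iff.2 h⟩ else .inr ⟨x, h⟩

theorem orb_eq_inl {g : Perm Ω} {x : Ω} {c : g.cycleFactorsFinset} : orb g x = .inl c ↔ x ∈ c.1.support := by
  rw [← Perm.eq_cycleOf_of_mem_cycleFactorsFinset_iff g c c.2, orb]
  split_ifs with h
  · simp [Subtype.ext_iff, eq_comm]
  · exact iff_of_false (by simp) fun e => h (Perm.cycleOf_mem_cycleFactorsFinset_iff.1 (e ▸ c.2))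

theorem orb_eq_inr {g : Perm Ω} {x : Ω} {y : {x // x ∉ g.support}} : orb g x = .inr y ↔ x = y := by
  rw [orb]
  split_ifs with h
  · exact iff_of_false (by simp) fun e => y.2 (e ▸ h)
  · simp [Subtype.ext_iff]

theorem U_parts (g : Perm Ω) :
    (U g.partition.parts : R σ) = ∑ f ∈ univ.filter fun f : Ω → σ => f ∘ g = f, AddMonoidAlgebra.single (ct f) 1 := by
  have hs : Function.Surjective (orb g) := by
    rintro (c | y)
    · obtain ⟨x, hx⟩ := (Perm.mem_cycleFactorsFinset_iff.1 c.2).1.nonempty_support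
      exact ⟨x, orb_eq_inl.2 hx⟩
    · exact ⟨y, orb_eq_inr.2 rfl⟩
  have h1 : ∀ x y, orb g x = orb g y ↔ g.SameCycle x y := fun x y => by
    by_cases h : y ∈ g.support
    · rw [show orb g y = .inl ⟨_, Perm.cycleOf_mem_cycleFactorsFinset_iff.2 h⟩ from dif_pos h, orb_eq_inl,
        Perm.mem_support_cycleOf_iff, and_iff_left h, Perm.sameCycle_comm]
    · rw [show orb g y = .inr ⟨y, h⟩ from dif_neg h, orb_eq_inr]
      exact ⟨fun e => e ▸ Perm.SameCycle.rfl, fun e => (e.symm.eq_of_left (Perm.notMem_support.1 h)).symm⟩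
  refine Eq.trans ?_ (sum_bij (s := univ) (f := fun φ => AddMonoidAlgebra.single (ct (φ ∘ orb g)) 1) (fun φ _ => φ ∘ orb g)
    (fun φ _ => mem_filter.2 ⟨mem_univ _, funext fun x => congrArg φ ((h1 _ _).2 (by simp [Perm.SameCycle.rfl]))⟩)
    (fun _ _ _ _ e => hs.injective_comp_right e) (fun f hf => ⟨f ∘ Function.surjInv hs, mem_univ _, funext fun x => ?_⟩)
    fun _ _ => rfl)
  · rw [← prod_P, Fintype.prod_sum_type, Perm.parts_partition, U_add]
    congr 1
    · simp only [orb_eq_inl, filter_mem_eq_inter, univ_inter]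
      rw [U, Perm.cycleType_def, Multiset.map_map, prod_coe_sort g.cycleFactorsFinset fun c => P univ (-(c.support.card : ℤ))]
      rfl
    · simp only [orb_eq_inr, filter_eq', mem_univ, if_true, card_singleton, prod_const, U, Multiset.map_replicate,
        Multiset.prod_replicate]
      congr 1
      rw [card_univ, Fintype.card_subtype_compl, Fintype.card_coe]
  · obtain ⟨k, -, hk⟩ := ((h1 _ _).1 (Function.surjInv_eq hs (orb g x))).exists_pow_eq'
    have h2 : ∀ (k : ℕ) y, f ((g ^ k) y) = f y := fun k => by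
      induction k with
      | zero => simp
      | succ k ih => exact fun y => by rw [pow_succ', Perm.mul_apply, ← ih y]; exact congrFun (mem_filter.1 hf).2 _
    exact (h2 k _).symm.trans (congrArg f hk)

variable (σ) in
/-- Frobenius' class functions -/
noncomputable def th (α : σ → ℤ) : Perm Ω → ℂ := fun g => T σ g.partition.parts α

theorem th_eq (α : σ → ℤ) (g : Perm Ω) : th σ α g = ∑ f ∈ univ.filter fun f : Ω → σ => f ∘ g = f, a σ (α + ct f) := by
  rw [th, T, U_parts, map_sum, LinearMap.sum_apply, Finset.sum_apply]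
  simp only [act_single]

/-- the action on functions with given content -/
@[reducible] def ctAct (β : σ → ℤ) : MulAction (Perm Ω) {f : Ω → σ // ct f = β} where
  smul g f := ⟨f.1 ∘ ⇑g⁻¹, (ct_comp _ _).trans f.2⟩
  one_smul _ := rfl
  mul_smul _ _ _ := rfl

theorem isGen_th (α : σ → ℤ) : IsGeneralizedCharacter (Perm Ω) (th σ α) := by
  have : (th σ α : Perm Ω → ℂ) = ∑ w : Perm σ, ((Perm.sign w : ℤ) : ℂ) • fun g =>
      (Nat.card (@MulAction.fixedBy _ _ _ (ctAct (δ σ ∘ w - α)) g) : ℂ) := by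
    funext g
    rw [th_eq, Finset.sum_apply]
    simp only [a]
    rw [sum_comm]
    refine sum_congr rfl fun w _ => ?_
    rw [← sum_filter, sum_const, nsmul_eq_mul, mul_comm, Pi.smul_apply, smul_eq_mul, filter_filter]
    congr 2
    rw [← Fintype.card_subtype, ← Nat.card_eq_fintype_card]
    refine Nat.card_congr ⟨fun f => ⟨⟨f.1, eq_sub_of_add_eq' f.2.2⟩, Subtype.ext (funext fun x => ?_)⟩,
      fun f => ⟨f.1.1, funext fun x => ?_, by rw [f.1.2]; simp⟩, fun _ => rfl, fun _ => rfl⟩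
    · show f.1 (g⁻¹ x) = f.1 x
      simpa using (congrFun f.2.1 (g⁻¹ x)).symm
    · have : f.1.1 (g⁻¹ (g x)) = f.1.1 (g x) := congrFun (congrArg Subtype.val f.2) (g x)
      simpa using this.symm
  rw [this]
  exact isGeneralizedCharacter_sum _ _ fun w _ =>
    (@isCharacter_card_fixedBy _ _ _ (ctAct _) _).isGeneralizedCharacter.intCast_smul _

theorem th_comp (α : σ → ℤ) (w : Perm σ) : (th σ (α ∘ w) : Perm Ω → ℂ) = ((Perm.sign w : ℤ) : ℂ) • th σ α :=
  funext fun _ => anti_T _ w (fun _ => rfl) α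

theorem th_supp {α : σ → ℤ} (h : (th σ α : Perm Ω → ℂ) ≠ 0) :
    Function.Injective α ∧ 0 ≤ α ∧ ∑ i, α i = d0 σ + Fintype.card Ω := by
  obtain ⟨g, hg⟩ := Function.ne_iff.1 h
  exact ⟨(anti_T _).inj hg, by simpa [g.partition.parts_sum] using supp_T _ α hg⟩

theorem conj_th (α : σ → ℤ) (g : Perm Ω) : conj (th σ α g) = th σ α g := by
  obtain ⟨z, hz⟩ := T_int g.partition.parts α
  rw [th, hz, map_intCast]

theorem z_parts (g : Perm Ω) : z g.partition.parts = Nat.card (Subgroup.centralizer {g}) := by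
  rw [Perm.nat_card_centralizer, Perm.parts_partition, Perm.sum_cycleType, mul_assoc]
  induction Fintype.card Ω - g.support.card with
  | zero => simp [z]
  | succ m ih =>
    rw [Multiset.replicate_succ, Multiset.add_cons, z_cons, ih, Multiset.count_add, Multiset.count_replicate_self,
      Multiset.count_eq_zero_of_notMem fun h => absurd (Perm.two_le_of_mem_cycleType h) (by simp), Nat.factorial_succ]
    ring

variable (hN : 2 * Fintype.card Ω ≤ Fintype.card σ)
include hN

open Classical in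
theorem col (g h : Perm Ω) : ∑ α ∈ S σ (d0 σ + Fintype.card Ω), th σ α g * th σ α h =
    if IsConj g h then (((Fintype.card σ).factorial * Nat.card (Subgroup.centralizer {g}) : ℕ) : ℂ) else 0 := by
  have := orth (σ := σ) g.partition.parts h.partition.parts (fun n => absurd (g.partition.parts_pos n) (by simp))
    (fun n => absurd (h.partition.parts_pos n) (by simp)) (by rw [g.partition.parts_sum, h.partition.parts_sum])
    (by rwa [g.partition.parts_sum])
  rw [g.partition.parts_sum, z_parts] at this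
  simp only [th, this, Perm.partition_eq_of_isConj, Nat.Partition.ext_iff]

theorem compl {θ : Perm Ω → ℂ} (hθ : IsClassFunction _ θ) :
    ∑ α ∈ S σ (d0 σ + Fintype.card Ω), classInner θ (th σ α) • th σ α = ((Fintype.card σ).factorial : ℂ) • θ := by
  classical
  funext g
  simp only [Finset.sum_apply, Pi.smul_apply, smul_eq_mul, classInner_def, conj_th, mul_assoc, sum_mul, ← mul_sum]
  rw [sum_comm]
  simp only [← mul_sum, mul_comm _ (th σ _ g), col hN, mul_ite, mul_zero]
  rw [← sum_filter, ← sum_mul, sum_filter_isConj hθ, ← Subgroup.card_mul_index (Subgroup.centralizer {g})]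
  have h1 : (Nat.card (Subgroup.centralizer {g}) : ℂ) ≠ 0 := natCard_cast_ne_zero
  have h2 : ((Subgroup.centralizer {g}).index : ℂ) ≠ 0 := Nat.cast_ne_zero.2 Subgroup.index_ne_zero_of_finite
  push_cast
  field_simp

theorem key {α : σ → ℤ} {χ : IrrCharacter (Perm Ω)} (h : classInner (th σ α) χ.1 ≠ 0) :
    (∃ ε : ℤˣ, th σ α = ((ε : ℤ) : ℂ) • (χ : Perm Ω → ℂ)) ∧
      ∀ β, classInner (th σ β) χ.1 ≠ 0 → ∃ w : Perm σ, β = α ∘ w := by
  classical
  choose m hm hm' using fun β : σ → ℤ => (isGen_th (Ω := Ω) β).exists_int_coeff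
  have h1 : ∀ ψ, ∑ β ∈ S σ (d0 σ + Fintype.card Ω), m β χ * m β ψ =
      if χ = ψ then ((Fintype.card σ).factorial : ℤ) else 0 := fun ψ => by
    have := congrArg (classInner · ψ.1) (compl hN χ.2.isClassFunction)
    simp only [classInner_sum_left, classInner_smul_left, classInner_irr,
      χ.2.isGeneralizedCharacter.classInner_comm (isGen_th _), hm] at this
    exact_mod_cast (by simpa using this : ((∑ β ∈ S σ (d0 σ + Fintype.card Ω), m β χ * m β ψ : ℤ) : ℂ) =
      ((if χ = ψ then ((Fintype.card σ).factorial : ℤ) else 0 : ℤ) : ℂ))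
  have h0 : (th σ α : Perm Ω → ℂ) ≠ 0 := fun e => h (by rw [e, classInner_zero_left])
  have h2 : ∀ (w : Perm σ) ψ, m (α ∘ w) ψ = Perm.sign w * m α ψ := fun w ψ => by
    have := hm (α ∘ w) ψ
    rw [th_comp, classInner_smul_left, hm] at this
    exact_mod_cast this.symm
  let O := univ.image fun w : Perm σ => α ∘ w
  have hO : O ⊆ S σ (d0 σ + Fintype.card Ω) := fun β hβ => by
    obtain ⟨w, -, rfl⟩ := mem_image.1 hβ
    exact mem_S.2 ⟨fun i => (th_supp h0).2.1 _, (Equiv.sum_comp w α).trans (th_supp h0).2.2⟩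
  have h3 : ∀ ψ, ∑ β ∈ O, m β χ * m β ψ = (Fintype.card σ).factorial * (m α χ * m α ψ) := fun ψ => by
    rw [sum_image (g := fun w : Perm σ => α ∘ w) fun u _ w _ e => Equiv.ext fun i => (th_supp h0).1 (congrFun e i),
      sum_congr rfl (g := fun _ => m α χ * m α ψ) fun w _ => by
        rw [h2, h2, mul_mul_mul_comm, ← Units.val_mul, Int.units_mul_self]; simp]
    simp [Fintype.card_perm]
  have h4 : m α χ ≠ 0 := fun e => h (by rw [hm, e, Int.cast_zero])
  have h5 := h1 χ
  rw [if_pos rfl, ← sum_sdiff hO, h3] at h5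
  have h6 : 0 ≤ ∑ β ∈ S σ (d0 σ + Fintype.card Ω) \ O, m β χ * m β χ := sum_nonneg fun _ _ => mul_self_nonneg _
  have h7 : (0 : ℤ) < (Fintype.card σ).factorial := by exact_mod_cast Nat.factorial_pos _
  have h8 : 0 < m α χ * m α χ := mul_self_pos.2 h4
  have h9 : m α χ * m α χ = 1 := by nlinarith
  have h10 : ∀ β ∈ S σ (d0 σ + Fintype.card Ω) \ O, m β χ = 0 := fun β hβ => mul_self_eq_zero.1
    ((sum_eq_zero_iff_of_nonneg (f := fun β => m β χ * m β χ) fun _ _ => mul_self_nonneg _).1
      (by rw [h9] at h5; omega) β hβ)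
  refine ⟨⟨Units.mkOfMulEqOne _ _ h9, ?_⟩, fun β hβ => ?_⟩
  · rw [hm' α, sum_eq_single χ]
    · rfl
    · intro ψ _ n
      have := h1 ψ
      rw [if_neg n.symm, ← sum_sdiff hO, h3, sum_eq_zero fun β hβ => by rw [h10 β hβ, zero_mul]] at this
      simp [(by simpa [h4, Nat.factorial_ne_zero] using this : m α ψ = 0)]
    · simp
  · by_contra n
    refine hβ (by rw [hm, h10 β (mem_sdiff.2 ⟨mem_S.2 (th_supp fun e => hβ (by rw [e, classInner_zero_left])).2,
      fun h => n ((mem_image.1 h).imp fun w hw => hw.2.symm)⟩), Int.cast_zero])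

theorem exists_th (χ : IrrCharacter (Perm Ω)) : ∃ (α : σ → ℤ) (ε : ℤˣ), th σ α = ((ε : ℤ) : ℂ) • (χ : Perm Ω → ℂ) := by
  by_contra! n
  have := compl hN χ.2.isClassFunction
  rw [sum_eq_zero fun α _ => ?_] at this
  · exact smul_ne_zero (Nat.cast_ne_zero.2 (Nat.factorial_ne_zero _)) χ.2.ne_zero this.symm
  · rw [(classInner_eq_zero_comm _ _).1 (by_contra fun h => (key hN h).1.elim (n α)), zero_smul]

theorem exists_irr {α : σ → ℤ} (h : (th σ α : Perm Ω → ℂ) ≠ 0) :
    ∃ (χ : IrrCharacter (Perm Ω)) (ε : ℤˣ), th σ α = ((ε : ℤ) : ℂ) • (χ : Perm Ω → ℂ) := by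
  obtain ⟨χ, h1, h2⟩ := (isGen_th α).isClassFunction.exists_irr_classInner_ne_zero h
  exact ⟨⟨χ, h1⟩, (key hN (χ := ⟨χ, h1⟩) h2).1⟩

theorem exists_perm {α β : σ → ℤ} (h : classInner (th σ α : Perm Ω → ℂ) (th σ β) ≠ 0) : ∃ w : Perm σ, β = α ∘ w := by
  obtain ⟨χ, h1, h2, h3⟩ := (isGen_th α).isClassFunction.exists_common_constituent h
  exact (key hN (χ := ⟨χ, h1⟩) h2).2 β h3

end Cfsg.Agent.SymC
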