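import Mathlib

/-! Bead configurations `σ → ℤ`, shift operators `act`, antisymmetric functions, the Heisenberg relation
and the orthogonality of the coefficient functions `T ρ` of `a_δ p_ρ` (helper16). -/
set_option autoImplicit false
set_option linter.unusedSectionVars false
open Equiv Finset

namespace Cfsg.Agent.SymC

variable {σ : Type*} [Fintype σ] [DecidableEq σ] {Q : Type*} [AddCommGroup Q] [Module ℂ Q]

/-- Laurent polynomials. -/
abbrev R (σ : Type*) := AddMonoidAlgebra ℂ (σ → ℤ)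

/-- shift of the argument -/
def sh (Q : Type*) [AddCommGroup Q] [Module ℂ Q] : Multiplicative (σ → ℤ) →* Module.End ℂ ((σ → ℤ) → Q) where
  toFun v := LinearMap.funLeft ℂ Q fun α => α + v.toAdd
  map_one' := by ext F α; simp [LinearMap.funLeft_apply]
  map_mul' v w := by ext F α; simp [LinearMap.funLeft_apply, add_assoc]

/-- the action of Laurent polynomials on functions -/
noncomputable def act : R σ →ₐ[ℂ] Module.End ℂ ((σ → ℤ) → Q) := AddMonoidAlgebra.lift ℂ _ _ (sh Q)

theorem act_single (v : σ → ℤ) (F : (σ → ℤ) → Q) (α : σ → ℤ) :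
    act (AddMonoidAlgebra.single v (1 : ℂ)) F α = F (α + v) := by
  rw [act, AddMonoidAlgebra.lift_single, one_smul]; rfl

theorem act_mul (x y : R σ) (F : (σ → ℤ) → Q) : act (x * y) F = act x (act y F) := by
  rw [map_mul]; rfl

theorem act_comm (x y : R σ) (F : (σ → ℤ) → Q) : act x (act y F) = act y (act x F) := by
  rw [← act_mul, mul_comm, act_mul]

/-- power sum over the variables in `s` -/
noncomputable def P (s : Finset σ) (k : ℤ) : R σ := ∑ i ∈ s, AddMonoidAlgebra.single (Pi.single i k) 1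

theorem act_P (s : Finset σ) (k : ℤ) (F : (σ → ℤ) → Q) (α : σ → ℤ) :
    act (P s k) F α = ∑ i ∈ s, F (α + Pi.single i k) := by
  rw [P, map_sum, LinearMap.sum_apply, Finset.sum_apply]
  simp only [act_single]

/-- antisymmetry under the permutations preserving `r` -/
def Anti {β : Type*} (r : σ → β) (F : (σ → ℤ) → Q) : Prop :=
  ∀ w : Perm σ, (∀ i, r (w i) = r i) → ∀ α, F (α ∘ w) = ((Perm.sign w : ℤ) : ℂ) • F α

theorem Anti.mono {β : Type*} (r : σ → β) {F : (σ → ℤ) → Q} (h : Anti (fun _ => ()) F) : Anti r F :=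
  fun w _ => h w fun _ => rfl

theorem Anti.eq_zero {β : Type*} {r : σ → β} {F : (σ → ℤ) → Q} (h : Anti r F) {α : σ → ℤ} {i j : σ} (hij : i ≠ j)
    (hr : r i = r j) (e : α i = α j) : F α = 0 := by
  have h1 := h (swap i j) (fun k => by
    rcases eq_or_ne k i with rfl | h1
    · rw [swap_apply_left, hr]
    rcases eq_or_ne k j with rfl | h2
    · rw [swap_apply_right, hr]
    rw [swap_apply_of_ne_of_ne h1 h2]) α
  have h2 : α ∘ swap i j = α := funext fun k => apply_swap_eq_self e k
  rw [h2, Perm.sign_swap hij] at h1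
  have h3 : (2 : ℂ) • F α = 0 := by
    rw [two_smul]; nth_rewrite 1 [h1]; simp
  exact (smul_eq_zero.1 h3).resolve_left two_ne_zero

theorem Anti.inj {F : (σ → ℤ) → Q} (h : Anti (fun _ => ()) F) {α : σ → ℤ} (h0 : F α ≠ 0) : Function.Injective α :=
  fun i j e => by_contra fun n => h0 (h.eq_zero n rfl e)

theorem comp_add_single (α : σ → ℤ) (w : Perm σ) (i : σ) (k : ℤ) :
    α ∘ w + Pi.single i k = (α + Pi.single (w i) k) ∘ w := by
  funext j; simp [Pi.single_apply]

theorem Anti.act_P {β : Type*} {r : σ → β} {F : (σ → ℤ) → Q} (h : Anti r F) (s : Finset σ)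
    (hs : ∀ i j, r i = r j → i ∈ s → j ∈ s) (k : ℤ) : Anti r (act (P s k) F) := fun w hw α => by
  rw [SymC.act_P, SymC.act_P, smul_sum]
  simp only [comp_add_single, h w hw]
  refine sum_bijective w w.bijective (fun i => ⟨hs _ _ (hw i).symm, hs _ _ (hw i)⟩) fun _ _ => rfl

/-- supported on nonnegative configurations of total degree `m` -/
def Supp (m : ℤ) (F : (σ → ℤ) → Q) : Prop := ∀ α, F α ≠ 0 → 0 ≤ α ∧ ∑ i, α i = m

theorem sum_add_single (α : σ → ℤ) (i : σ) (k : ℤ) : ∑ j, (α + Pi.single i k : σ → ℤ) j = ∑ j, α j + k := by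
  simp [sum_add_distrib]

theorem Supp.up {m : ℤ} {F : (σ → ℤ) → Q} (h : Supp m F) (s : Finset σ) (k : ℕ) : Supp (m + k) (act (P s (-k)) F) := by
  intro α h0
  rw [act_P] at h0
  obtain ⟨i, -, hi⟩ := exists_ne_zero_of_sum_ne_zero h0
  obtain ⟨h1, h2⟩ := h _ hi
  rw [sum_add_single] at h2
  refine ⟨fun j => ?_, by omega⟩
  have := h1 j
  simp only [Pi.add_apply, Pi.single_apply, Pi.zero_apply] at this ⊢
  split_ifs at this <;> omega

open Classical in
/-- truncation to nonnegative configurations -/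
noncomputable def tr (F : (σ → ℤ) → Q) : (σ → ℤ) → Q := fun α => if 0 ≤ α then F α else 0

theorem Anti.tr {β : Type*} {r : σ → β} {F : (σ → ℤ) → Q} (h : Anti r F) : Anti r (tr F) := fun w hw α => by
  have : 0 ≤ α ∘ w ↔ 0 ≤ α := ⟨fun h i => by simpa using h (w.symm i), fun h i => h _⟩
  by_cases h0 : 0 ≤ α
  · rw [SymC.tr, SymC.tr, if_pos h0, if_pos (this.2 h0), h w hw α]
  · rw [SymC.tr, SymC.tr, if_neg h0, if_neg (mt this.1 h0), smul_zero]

theorem Supp.down {m : ℤ} {F : (σ → ℤ) → Q} (h : Supp m F) (s : Finset σ) (k : ℤ) : Supp (m - k) (tr (act (P s k) F)) := by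
  intro α h0
  simp only [tr] at h0
  split_ifs at h0 with h1
  · rw [act_P] at h0
    obtain ⟨i, -, hi⟩ := exists_ne_zero_of_sum_ne_zero h0
    have := (h _ hi).2
    rw [sum_add_single] at this
    exact ⟨h1, by omega⟩
  · exact absurd rfl h0

variable (σ) in
/-- the minimal degree -/
def d0 : ℤ := ∑ n ∈ range (Fintype.card σ), (n : ℤ)

theorem d0_le {α : σ → ℤ} (hi : Function.Injective α) (h0 : 0 ≤ α) : d0 σ ≤ ∑ i, α i := by
  have := sum_range_le_sum (s := univ.image α) (c := 0) (by simpa [Pi.le_def] using h0)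
  rw [card_image_of_injective _ hi, sum_image hi.injOn] at this
  simpa [d0] using this

theorem mem_range {α : σ → ℤ} (hi : Function.Injective α) (h0 : 0 ≤ α) {m : ℤ} (hs : ∑ i, α i = d0 σ + m) {v : ℤ}
    (hv : 0 ≤ v) (hv' : v + m < Fintype.card σ) : ∃ i, α i = v := by
  by_contra! hn
  have h1 := d0_le (α := fun i => if α i < v then α i else α i - 1) (fun i j e => hi (by
    have := hn i; have := hn j
    simp only at e; split_ifs at e <;> omega)) (fun i => by
      have := hn i; have : 0 ≤ α i := h0 i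
      simp only [Pi.zero_apply]; split_ifs <;> omega)
  have h2 : ∑ i, (if α i < v then α i else α i - 1) =
      ∑ i, α i - Fintype.card σ + ((univ.filter fun i => α i < v).card : ℤ) := by
    rw [card_filter, ← card_univ, card_eq_sum_ones]
    push_cast
    rw [← sum_sub_distrib, ← sum_add_distrib]
    exact sum_congr rfl fun i _ => by split_ifs <;> ring
  have h3 : (univ.filter fun i => α i < v).card ≤ (Ico 0 v).card :=
    card_le_card_of_injOn α (fun i hi => by
      have : 0 ≤ α i := h0 i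
      simpa [this] using hi) hi.injOn
  rw [Int.card_Ico] at h3
  omega

theorem card_lt {α : σ → ℤ} (hi : Function.Injective α) (h0 : 0 ≤ α) {m : ℤ} (hs : ∑ i, α i = d0 σ + m) {k : ℕ}
    (hk : k + m ≤ Fintype.card σ) : (univ.filter fun i => α i < k).card = k := by
  have : (univ.filter fun i => α i < k).image α = Ico (0 : ℤ) k := by
    ext v
    simp only [mem_image, mem_filter, mem_univ, true_and, mem_Ico]
    constructor
    · rintro ⟨i, h, rfl⟩; exact ⟨h0 i, h⟩
    · rintro ⟨h1, h2⟩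
      obtain ⟨i, rfl⟩ := mem_range hi h0 hs h1 (by omega)
      exact ⟨i, h2, rfl⟩
  rw [← card_image_of_injective _ hi, this]; simp

theorem eq_zero_of_lt {F : (σ → ℤ) → Q} (h : Anti (fun _ => ()) F) {m : ℤ} (hs : Supp m F) (hm : m < d0 σ) : F = 0 := by
  funext α
  by_contra h0
  have := d0_le (h.inj h0) (hs α h0).1
  rw [(hs α h0).2] at this
  omega

theorem heis {F : (σ → ℤ) → Q} (h : Anti (fun _ => ()) F) {m : ℤ} (hs : Supp (d0 σ + m) F) {k l : ℕ}
    (hk : k + m ≤ Fintype.card σ) (hl : l + m ≤ Fintype.card σ) :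
    tr (act (P univ k) (act (P univ (-l)) F)) =
      act (P univ (-l)) (tr (act (P univ k) F)) + (if k = l then (k : ℂ) else 0) • F := by
  have hA : Anti (fun _ => ()) (tr (act (P univ k) (act (P univ (-l)) F)) - act (P univ (-l)) (tr (act (P univ k) F))) :=
    fun w hw α => by
      rw [Pi.sub_apply, Pi.sub_apply, smul_sub, ((h.act_P _ (by simp) _).act_P _ (by simp) _).tr w hw,
        ((h.act_P _ (by simp) _).tr.act_P _ (by simp) _) w hw]
  rw [← sub_eq_iff_eq_add']
  funext α
  by_cases h0 : 0 ≤ α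
  swap
  · have h1 : F α = 0 := by_contra fun n => h0 (hs α n).1
    have h2 : act (P univ (-l)) (tr (act (P univ k) F)) α = 0 := by_contra fun n => h0 (((hs.down _ _).up _ _) α n).1
    simp [tr, h0, h1, h2]
  have key : (tr (act (P univ k) (act (P univ (-l)) F)) - act (P univ (-l)) (tr (act (P univ k) F))) α =
      ∑ j, if α j < l then F (α + Pi.single j ((k : ℤ) - l)) else 0 := by
    rw [Pi.sub_apply, tr, if_pos h0, act_comm, act_P, act_P, ← sum_sub_distrib]
    refine sum_congr rfl fun j _ => ?_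
    have e : 0 ≤ α + Pi.single j (-(l : ℤ)) ↔ ¬ α j < l := by
      refine ⟨fun h => by have := h j; simp at this; omega, fun h i => ?_⟩
      have : 0 ≤ α i := h0 i
      simp only [Pi.add_apply, Pi.single_apply, Pi.zero_apply]
      split_ifs with e
      · subst e; omega
      · omega
    simp only [tr, e]
    split_ifs with h1
    · rw [sub_zero, act_P, sum_eq_single j]
      · rw [add_assoc, ← Pi.single_add]; congr 3; ring
      · intro i _ hij
        by_contra n
        have := (hs _ n).1 j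
        simp [Pi.single_apply, hij.symm] at this
        omega
      · simp
    · simp
  split_ifs with e
  · subst e
    rw [key]
    simp only [sub_self, Pi.single_zero, add_zero, Pi.smul_apply]
    by_cases n : F α = 0
    · simp [n]
    rw [← sum_filter, sum_const, card_lt (h.inj n) h0 (hs α n).2 hk, Nat.cast_smul_eq_nsmul]
  · rw [zero_smul, Pi.zero_apply]
    by_contra n
    have hi := hA.inj n
    rw [key] at n
    obtain ⟨j, -, hj⟩ := exists_ne_zero_of_sum_ne_zero n
    split_ifs at hj with h1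
    · obtain ⟨i, hi'⟩ := mem_range (h.inj hj) (hs _ hj).1 (hs _ hj).2 (h0 j) (by omega)
      rcases eq_or_ne i j with rfl | n
      · simp at hi'; omega
      · exact n (hi (by simpa [Pi.single_apply, n] using hi'))
    · exact hj rfl

variable (σ) in
/-- the staircase -/
noncomputable def δ : σ → ℤ := fun i => (Fintype.equivFin σ i : ℕ)

theorem δ_inj : Function.Injective (δ σ) := fun _ _ e =>
  (Fintype.equivFin σ).injective (Fin.ext (by simpa [δ] using e))

theorem sum_δ : ∑ i, δ σ i = d0 σ := by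
  rw [d0, ← Fin.sum_univ_eq_sum_range (fun n => (n : ℤ))]
  exact Fintype.sum_equiv (Fintype.equivFin σ) _ _ fun _ => rfl

variable (σ) in
/-- the coefficients of the Vandermonde determinant -/
noncomputable def a : (σ → ℤ) → ℂ := fun α => ∑ w : Perm σ, if α = δ σ ∘ w then ((Perm.sign w : ℤ) : ℂ) else 0

theorem a_comp (w : Perm σ) : a σ (δ σ ∘ w) = ((Perm.sign w : ℤ) : ℂ) := by
  rw [a, sum_eq_single w, if_pos rfl]
  · exact fun u _ n => if_neg fun e => n (Equiv.ext fun i => (δ_inj (congrFun e i)).symm)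
  · simp

theorem exists_of_a {α : σ → ℤ} (h : a σ α ≠ 0) : ∃ w : Perm σ, α = δ σ ∘ w := by
  obtain ⟨w, -, h⟩ := exists_ne_zero_of_sum_ne_zero h
  exact ⟨w, by_contra fun n => h (if_neg n)⟩

theorem sign_sq (w : Perm σ) : ((Perm.sign w : ℤ) : ℂ) * ((Perm.sign w : ℤ) : ℂ) = 1 := by
  rw [← Int.cast_mul, ← Units.val_mul, Int.units_mul_self]; simp

theorem anti_a : Anti (fun _ => ()) (a σ) := fun w _ α => by
  by_cases h : a σ α = 0
  · rw [h, smul_zero]
    by_contra n
    obtain ⟨u, hu⟩ := exists_of_a n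
    have : α = δ σ ∘ (u * w⁻¹ : Perm σ) := funext fun i => by simpa using congrFun hu (w⁻¹ i)
    rw [this, a_comp] at h
    simp at h
  · obtain ⟨u, rfl⟩ := exists_of_a h
    rw [show (δ σ ∘ u) ∘ w = δ σ ∘ (u * w : Perm σ) from rfl, a_comp, a_comp]
    simp [mul_comm]

theorem supp_a : Supp (d0 σ) (a σ) := fun α h => by
  obtain ⟨u, rfl⟩ := exists_of_a h
  exact ⟨fun i => by simp [δ], (Equiv.sum_comp u _).trans sum_δ⟩

/-- product of negative power sums -/
noncomputable def U (ρ : Multiset ℕ) : R σ := (ρ.map fun k : ℕ => P univ (-k)).prod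

theorem U_cons (k : ℕ) (ρ : Multiset ℕ) : (U (k ::ₘ ρ) : R σ) = P univ (-k) * U ρ := by simp [U]
theorem U_add (ρ τ : Multiset ℕ) : (U (ρ + τ) : R σ) = U ρ * U τ := by simp [U]

variable (σ) in
/-- the coefficients of `a_δ p_ρ` -/
noncomputable def T (ρ : Multiset ℕ) : (σ → ℤ) → ℂ := act (U ρ) (a σ)

theorem T_zero : T σ 0 = a σ := by simp [T, U]
theorem T_cons (k : ℕ) (ρ : Multiset ℕ) : T σ (k ::ₘ ρ) = act (P univ (-k)) (T σ ρ) := by rw [T, U_cons, act_mul, T]
theorem T_add (ρ τ : Multiset ℕ) : T σ (ρ + τ) = act (U ρ) (T σ τ) := by rw [T, U_add, act_mul, T]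

theorem Anti.act_U {F : (σ → ℤ) → Q} (h : Anti (fun _ => ()) F) (ρ : Multiset ℕ) : Anti (fun _ => ()) (act (U ρ) F) := by
  induction ρ using Multiset.induction_on with
  | empty => simpa [U] using h
  | cons k ρ ih => rw [U_cons, act_mul]; exact ih.act_P _ (by simp) _

theorem Supp.act_U {m : ℤ} {F : (σ → ℤ) → Q} (h : Supp m F) (ρ : Multiset ℕ) : Supp (m + ρ.sum) (act (U ρ) F) := by
  induction ρ using Multiset.induction_on with
  | empty => simpa [U] using h
  | cons k ρ ih =>
    rw [U_cons, act_mul]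
    convert ih.up univ k using 1
    simp; ring

theorem anti_T (ρ : Multiset ℕ) : Anti (fun _ => ()) (T σ ρ) := anti_a.act_U ρ
theorem supp_T (ρ : Multiset ℕ) : Supp (d0 σ + ρ.sum) (T σ ρ) := supp_a.act_U ρ

theorem T_int (ρ : Multiset ℕ) (α : σ → ℤ) : ∃ z : ℤ, T σ ρ α = z := by
  induction ρ using Multiset.induction_on generalizing α with
  | empty =>
    rw [T_zero]
    by_cases h : a σ α = 0
    · exact ⟨0, by simp [h]⟩
    · obtain ⟨u, rfl⟩ := exists_of_a h
      exact ⟨_, a_comp u⟩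
  | cons k ρ ih =>
    choose z hz using ih
    exact ⟨∑ i, z (α + Pi.single i (-(k : ℤ))), by rw [T_cons, act_P]; simp [hz]⟩

theorem down_T (ρ : Multiset ℕ) (hρ : 2 * ρ.sum ≤ Fintype.card σ) {k : ℕ} (hk : 0 < k) :
    tr (act (P univ k) (T σ ρ)) = ((k * ρ.count k : ℕ) : ℂ) • T σ (ρ.erase k) := by
  by_cases hkρ : ρ.sum < k
  · rw [Multiset.count_eq_zero_of_notMem fun h => by have := Multiset.single_le_sum (by simp) _ h; omega]
    simpa using eq_zero_of_lt ((anti_T ρ).act_P _ (by simp) _).tr ((supp_T ρ).down _ _) (by omega)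
  have : k + ρ.sum ≤ Fintype.card σ := by omega
  clear hkρ
  induction ρ using Multiset.induction_on with
  | empty =>
    simpa using eq_zero_of_lt ((anti_T 0).act_P _ (by simp) _).tr ((supp_T (σ := σ) 0).down univ k) (by simp; omega)
  | cons l ρ ih =>
    rw [Multiset.sum_cons] at hρ this
    rw [T_cons, heis (anti_T ρ) (supp_T ρ) (by omega) (by omega), ih (by omega) (by omega), map_smul]
    split_ifs with e
    · subst e
      rw [Multiset.erase_cons_head, Multiset.count_cons_self]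
      by_cases h : k ∈ ρ
      · rw [← T_cons, Multiset.cons_erase h, ← add_smul]; push_cast; congr 1; ring
      · simp [Multiset.count_eq_zero_of_notMem h]
    · rw [zero_smul, add_zero, Multiset.count_cons_of_ne e, Multiset.erase_cons_tail _ (Ne.symm e), T_cons]

variable (σ) in
/-- nonnegative configurations of degree `m` -/
noncomputable def S (m : ℤ) : Finset (σ → ℤ) := (Fintype.piFinset fun _ => Icc 0 m).filter fun α => ∑ i, α i = m

theorem mem_S {m : ℤ} {α : σ → ℤ} : α ∈ S σ m ↔ 0 ≤ α ∧ ∑ i, α i = m := by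
  simp only [S, mem_filter, Fintype.mem_piFinset, mem_Icc]
  refine ⟨fun h => ⟨fun i => (h.1 i).1, h.2⟩, fun h => ⟨fun i => ⟨h.1 i, ?_⟩, h.2⟩⟩
  rw [← h.2]
  exact single_le_sum (fun j _ => h.1 j) (mem_univ i)

theorem adj {m : ℤ} {F : (σ → ℤ) → ℂ} (h : Supp m F) (G : (σ → ℤ) → ℂ) (k : ℕ) :
    ∑ α ∈ S σ (m + k), act (P univ (-k)) F α * G α = ∑ α ∈ S σ m, F α * tr (act (P univ k) G) α := by
  have e : ∑ α ∈ S σ m, F α * tr (act (P univ k) G) α = ∑ α ∈ S σ m, F α * act (P univ k) G α :=
    sum_congr rfl fun α hα => by rw [tr, if_pos (mem_S.1 hα).1]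
  rw [e]
  simp only [act_P, sum_mul, mul_sum]
  rw [sum_comm, sum_comm (s := S σ m)]
  refine sum_congr rfl fun i _ => (sum_of_injOn (fun α => α + Pi.single i (k : ℤ)) (add_left_injective _).injOn
    (fun α hα => ?_) (fun α _ hα => ?_) fun α _ => ?_).symm
  · obtain ⟨h1, h2⟩ := mem_S.1 hα
    exact mem_S.2 ⟨add_nonneg h1 (Pi.single_nonneg.2 (by simp)), by rw [sum_add_single, h2]⟩
  · refine mul_eq_zero_of_left (by_contra fun n => hα ⟨_, mem_coe.2 (mem_S.2 (h _ n)), ?_⟩) _
    simp [add_assoc, ← Pi.single_add]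
  · simp [add_assoc, ← Pi.single_add]

/-- centralizer order -/
def z (ρ : Multiset ℕ) : ℕ := ρ.prod * ∏ k ∈ ρ.toFinset, (ρ.count k).factorial

theorem z_cons (k : ℕ) (ρ : Multiset ℕ) : z (k ::ₘ ρ) = k * (ρ.count k + 1) * z ρ := by
  have h1 : ∏ j ∈ ρ.toFinset, (ρ.count j).factorial = ∏ j ∈ insert k ρ.toFinset, (ρ.count j).factorial :=
    prod_subset (subset_insert _ _) fun j _ h => by rw [Multiset.count_eq_zero_of_notMem (by simpa using h)]; rfl
  rw [z, z, h1, Multiset.toFinset_cons, ← mul_prod_erase _ _ (mem_insert_self k _),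
    ← mul_prod_erase _ _ (mem_insert_self k _), Multiset.prod_cons, Multiset.count_cons_self, Nat.factorial_succ,
    prod_congr rfl fun j hj => by rw [Multiset.count_cons_of_ne (ne_of_mem_erase hj)]]
  ring

theorem orth (ρ τ : Multiset ℕ) (h0 : 0 ∉ ρ) (h0' : 0 ∉ τ) (e : τ.sum = ρ.sum) (hρ : 2 * ρ.sum ≤ Fintype.card σ) :
    ∑ α ∈ S σ (d0 σ + ρ.sum), T σ ρ α * T σ τ α =
      if ρ = τ then (((Fintype.card σ).factorial * z ρ : ℕ) : ℂ) else 0 := by
  induction ρ using Multiset.induction_on generalizing τ with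
  | empty =>
    obtain rfl : τ = 0 := Multiset.eq_zero_of_forall_notMem fun k hk =>
      h0' (Multiset.sum_eq_zero_iff.1 e k hk ▸ hk)
    rw [if_pos rfl, T_zero, ← sum_of_injOn (s := univ) (f := fun _ => (1 : ℂ)) (fun w : Perm σ => δ σ ∘ w)
      (fun u _ w _ e => Equiv.ext fun i => δ_inj (congrFun e i))
      (fun w _ => mem_S.2 (by simpa using supp_a (δ σ ∘ w) (by simp [a_comp])))
      (fun α _ h => mul_eq_zero_of_left (by_contra fun n => h ((exists_of_a n).imp fun w hw => ⟨by simp, hw.symm⟩)) _)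
      fun w _ => by rw [a_comp, sign_sq]]
    simp [z, Fintype.card_perm]
  | cons k ρ ih =>
    rw [Multiset.sum_cons] at e hρ
    rw [Multiset.mem_cons, not_or] at h0
    rw [T_cons, show d0 σ + ((k ::ₘ ρ).sum : ℕ) = d0 σ + ρ.sum + k by simp; ring, adj (supp_T ρ),
      down_T τ (by omega) (Nat.pos_of_ne_zero (Ne.symm h0.1))]
    simp only [Pi.smul_apply, smul_eq_mul, mul_left_comm (T σ ρ _), ← mul_sum]
    by_cases h : k ∈ τ
    · have := Multiset.sum_erase h
      rw [ih _ h0.2 (fun n => h0' (Multiset.mem_of_mem_erase n)) (by omega) (by omega)]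
      by_cases e' : ρ = τ.erase k
      · obtain rfl : τ = k ::ₘ ρ := by rw [e', Multiset.cons_erase h]
        rw [if_pos e', if_pos rfl, z_cons, Multiset.count_cons_self]; push_cast; ring
      · rw [if_neg e', if_neg fun n => e' (by rw [← n, Multiset.erase_cons_head]), mul_zero]
    · rw [if_neg fun n => h (by rw [← n]; simp), Multiset.count_eq_zero_of_notMem h]; simp

end Cfsg.Agent.SymC
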