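import Cfsg.Agent.SymC.Fock

/-! The `p`-abacus (helper16): vacuum configurations `vac`, path counts `np`, the runner lemma and the count of
coloured partitions. -/
set_option autoImplicit false
set_option linter.unusedSectionVars false
open Equiv Finset

namespace Cfsg.Agent.SymC

variable {σ : Type*} [Fintype σ] [DecidableEq σ] {Q : Type*} [AddCommGroup Q] [Module ℂ Q] {p : ℕ}

/-- a configuration: distinct nonnegative positions -/
def Cf (α : σ → ℤ) : Prop := Function.Injective α ∧ 0 ≤ α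

/-- all beads pushed up -/
def Dc (p : ℕ) (α : σ → ℤ) : Prop := ∀ i, (p : ℤ) ≤ α i → ∃ j, α j = α i - p

/-- the beads above `i` on its runner -/
def ab (p : ℕ) (α : σ → ℤ) (i : σ) : Finset σ := univ.filter fun j => α j % p = α i % p ∧ α j < α i

/-- the core configuration -/
def vac (p : ℕ) (α : σ → ℤ) : σ → ℤ := fun i => α i % p + p * (ab p α i).card

theorem vac_mod (α : σ → ℤ) (i : σ) : vac p α i % p = α i % p := by simp [vac]

theorem le_of_mod {a b : ℤ} (h : a % p = b % p) (h' : a - p < b) : a ≤ b := by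
  obtain ⟨t, ht⟩ := (Int.ModEq.dvd h : (p : ℤ) ∣ b - a)
  have hp : (0 : ℤ) ≤ p := by positivity
  by_contra! n
  have h1 : t < 0 := by by_contra! h; nlinarith
  nlinarith

theorem div_lt_of_mod (hp : 0 < p) {a b : ℤ} (h : a % p = b % p) : a / p < b / p ↔ a < b := by
  have h1 := Int.emod_add_mul_ediv a p
  have h2 := Int.emod_add_mul_ediv b p
  have : (0 : ℤ) < p := by exact_mod_cast hp
  constructor <;> intro h3
  · nlinarith
  · by_contra! n; nlinarith

theorem ab_image (hp : 0 < p) {α : σ → ℤ} (h : Cf α) (i : σ) :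
    (ab p α i).image (fun j => α j / p) ⊆ Ico 0 (α i / p) ∧ ((ab p α i).image fun j => α j / p).card = (ab p α i).card := by
  refine ⟨fun t ht => ?_, card_image_of_injOn fun j hj k hk e => h.1 ?_⟩
  · obtain ⟨j, hj, rfl⟩ := mem_image.1 ht
    obtain ⟨-, h1, h2⟩ := mem_filter.1 hj
    exact mem_Ico.2 ⟨Int.ediv_nonneg (h.2 j) (by positivity), (div_lt_of_mod hp h1).2 h2⟩
  · rw [← Int.emod_add_mul_ediv (α j) p, ← Int.emod_add_mul_ediv (α k) p, (mem_filter.1 hj).2.1, (mem_filter.1 hk).2.1,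
      show α j / p = α k / p from e]

theorem Dc.vac_eq (hp : 0 < p) {α : σ → ℤ} (h : Cf α) (hd : Dc p α) : vac p α = α := by
  funext i
  have h1 : ∀ k : ℕ, k ≤ α i / p → ∃ j, α j = α i - p * k := fun k => by
    induction k with
    | zero => exact fun _ => ⟨i, by simp⟩
    | succ k ih =>
      intro hk
      obtain ⟨j, hj⟩ := ih (by omega)
      have h2 := Int.emod_add_mul_ediv (α i) p
      have h3 := Int.emod_nonneg (α i) (show (p : ℤ) ≠ 0 by omega)
      obtain ⟨l, hl⟩ := hd j (by push_cast at hk; nlinarith)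
      exact ⟨l, by rw [hl, hj]; push_cast; ring⟩
  have h2 : (ab p α i).image (fun j => α j / p) = Ico 0 (α i / p) := (ab_image hp h i).1.antisymm fun t ht => by
    rw [mem_Ico] at ht
    obtain ⟨j, hj⟩ := h1 (α i / p - t).toNat (by omega)
    rw [Int.toNat_of_nonneg (by omega)] at hj
    have : (0 : ℤ) < p := by exact_mod_cast hp
    refine mem_image.2 ⟨j, mem_filter.2 ⟨mem_univ _, by simp [hj], by nlinarith⟩, ?_⟩
    rw [hj, Int.sub_mul_ediv_left _ _ this.ne']; ring
  rw [vac, ← (ab_image hp h i).2, h2, Int.card_Ico, sub_zero, Int.toNat_of_nonneg (Int.ediv_nonneg (h.2 i) (by positivity)),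
    Int.emod_add_mul_ediv]

theorem vac_le (hp : 0 < p) {α : σ → ℤ} (h : Cf α) : vac p α ≤ α := fun i => by
  have h1 := card_le_card (ab_image hp h i).1
  rw [(ab_image hp h i).2, Int.card_Ico, sub_zero] at h1
  have h2 := Int.emod_add_mul_ediv (α i) p
  have h3 : 0 ≤ α i / p := Int.ediv_nonneg (h.2 i) (by positivity)
  have h4 : ((ab p α i).card : ℤ) ≤ α i / p := by omega
  simp only [vac]; nlinarith

theorem mv_mod (α : σ → ℤ) (i j : σ) : (α + Pi.single i (-(p : ℤ)) : σ → ℤ) j % p = α j % p := by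
  rw [Pi.add_apply, Pi.single_apply]; split_ifs <;> simp

theorem vac_mv {α : σ → ℤ} (h : Function.Injective α) {i : σ} (h' : Function.Injective (α + Pi.single i (-(p : ℤ)))) :
    vac p (α + Pi.single i (-(p : ℤ))) = vac p α := by
  funext j
  rw [vac, vac, mv_mod]
  congr 4
  ext k
  simp only [ab, mem_filter, mem_univ, true_and, mv_mod, and_congr_right_iff]
  intro e
  have h1 := h.ne_iff (x := k) (y := j)
  have h2 := h'.ne_iff (x := k) (y := j)
  have h3 := le_of_mod e
  have h4 := le_of_mod e.symm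
  simp only [Pi.add_apply, Pi.single_apply] at h2 ⊢
  rcases eq_or_ne k j with rfl | n
  · simp
  · have := h1.2 n; have := h2.2 n
    split_ifs at * <;> omega

theorem exists_mv (hp : 0 < p) {α : σ → ℤ} (h : Cf α) (hd : ¬ Dc p α) : ∃ i, Cf (α + Pi.single i (-(p : ℤ))) := by
  simp only [Dc, not_forall, not_exists] at hd
  obtain ⟨i, h1, h2⟩ := hd
  refine ⟨i, fun j k e => h.1 ?_, fun j => ?_⟩
  · have := h2 j; have := h2 k
    simp only [Pi.add_apply, Pi.single_apply] at e
    split_ifs at e with e1 e2 e2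
    · rw [e1, e2]
    · subst e1; omega
    · subst e2; omega
    · omega
  · have : 0 ≤ α j := h.2 j
    simp only [Pi.add_apply, Pi.single_apply, Pi.zero_apply]
    split_ifs with e
    · subst e; omega
    · omega

theorem cf_vac (hp : 0 < p) {α : σ → ℤ} (h : Cf α) : Cf (vac p α) ∧ Dc p (vac p α) ∧ ∃ w : ℕ, ∑ i, α i = ∑ i, vac p α i + p * w := by
  induction hn : (∑ i, α i).toNat using Nat.strong_induction_on generalizing α with
  | _ n ih =>
    by_cases hd : Dc p α
    · rw [hd.vac_eq hp h]; exact ⟨h, hd, 0, by simp⟩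
    obtain ⟨i, hi⟩ := exists_mv hp h hd
    have h1 := sum_add_single α i (-(p : ℤ))
    have h2 : 0 ≤ ∑ j, (α + Pi.single i (-(p : ℤ)) : σ → ℤ) j := sum_nonneg fun j _ => hi.2 j
    obtain ⟨h3, h4, w, h5⟩ := ih _ (by omega) hi rfl
    rw [vac_mv h.1 hi.1] at h3 h4 h5
    exact ⟨h3, h4, w + 1, by push_cast; linarith⟩

theorem exists_perm_dc (hp : 0 < p) {α β : σ → ℤ} (h : Cf α) (hd : Dc p α) (h' : Cf β) (hd' : Dc p β)
    (e : ∀ i, β i % p = α i % p) : ∃ w : Perm σ, β = α ∘ w := by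
  have key : ∀ {α : σ → ℤ}, Cf α → Dc p α → ∀ s, (univ.filter fun j => α j % p = s).image (fun j => α j / p) =
      Ico 0 ((univ.filter fun j => α j % p = s).card : ℤ) := fun {α} h hd s => by
    refine eq_of_subset_of_card_le (fun t ht => ?_) ?_
    · obtain ⟨j, hj, rfl⟩ := mem_image.1 ht
      have h1 : α j / p = (ab p α j).card := by
        conv_lhs => rw [← hd.vac_eq hp h, vac, Int.add_mul_ediv_left _ _ (by omega),
          Int.ediv_eq_zero_of_lt (Int.emod_nonneg _ (by omega)) (Int.emod_lt_of_pos _ (by omega)), zero_add]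
      have h2 : (ab p α j).card < (univ.filter fun j => α j % p = s).card :=
        card_lt_card ((ssubset_iff_of_subset fun k hk => mem_filter.2 ⟨mem_univ _,
          (mem_filter.1 hk).2.1.trans (mem_filter.1 hj).2⟩).2 ⟨j, hj, by simp [ab]⟩)
      exact mem_Ico.2 (by omega)
    · rw [card_image_of_injOn fun j hj k hk e => h.1 ?_]
      · simp
      rw [← Int.emod_add_mul_ediv (α j) p, ← Int.emod_add_mul_ediv (α k) p, (mem_filter.1 hj).2, (mem_filter.1 hk).2,
        show α j / p = α k / p from e]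
  have h1 : ∀ i, ∃ j, α j = β i := fun i => by
    have h2 : β i / p ∈ (univ.filter fun j => α j % p = β i % p).image fun j => α j / p := by
      rw [key h hd]
      simp only [← e]
      rw [← key h' hd']
      exact mem_image.2 ⟨i, by simp, rfl⟩
    obtain ⟨j, hj, h3⟩ := mem_image.1 h2
    exact ⟨j, by rw [← Int.emod_add_mul_ediv (α j) p, (mem_filter.1 hj).2, h3, Int.emod_add_mul_ediv]⟩
  choose f hf using h1
  have hi : Function.Injective f := fun i j e => h'.1 (by rw [← hf, e, hf])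
  exact ⟨Equiv.ofBijective f (Finite.injective_iff_bijective.1 hi), funext fun i => (hf i).symm⟩

open Classical in
/-- number of ways to push all beads up -/
noncomputable def np (p : ℕ) : ℕ → (σ → ℤ) → ℕ
  | 0, _ => 1
  | w + 1, α => ∑ i, if Cf (α + Pi.single i (-(p : ℤ))) then np p w (α + Pi.single i (-(p : ℤ))) else 0

theorem np_pos (hp : 0 < p) (w : ℕ) {α : σ → ℤ} (h : Cf α) (e : ∑ i, α i = ∑ i, vac p α i + p * w) : 0 < np p w α := by
  induction w generalizing α with
  | zero => exact one_pos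
  | succ w ih =>
    obtain ⟨i, hi⟩ := exists_mv hp h fun hd => by rw [hd.vac_eq hp h] at e; push_cast at e; nlinarith
    refine (lt_of_lt_of_le ?_ (single_le_sum (fun _ _ => Nat.zero_le _) (mem_univ i)) : 0 < ∑ i, _)
    rw [if_pos hi]
    exact ih hi (by rw [vac_mv h.1 hi.1, sum_add_single, e]; push_cast; ring)

theorem path (hp : 0 < p) {F : (σ → ℤ) → Q} (hF : ∀ α, F α ≠ 0 → Cf α) (hA : Anti (fun _ => ()) F) (w : ℕ) {α : σ → ℤ}
    (h : Cf α) (e : ∑ i, α i = ∑ i, vac p α i + p * w) :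
    act (U (Multiset.replicate w p)) F α = np p w α • F (vac p α) := by
  induction w generalizing α with
  | zero =>
    have : vac p α = α := funext fun i => (sum_eq_sum_iff_of_le fun i _ => vac_le hp h i).1 (by simpa using e.symm) i (mem_univ i)
    simp [U, np, this]
  | succ w ih =>
    have h0 : ∀ (w : ℕ) α, act (U (Multiset.replicate w p)) F α ≠ 0 → 0 ≤ α := fun w => by
      induction w with
      | zero => exact fun α h => (hF α (by simpa [U] using h)).2
      | succ w ih =>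
        intro α h j
        rw [Multiset.replicate_succ, U_cons, act_mul, act_P] at h
        obtain ⟨i, -, hi⟩ := exists_ne_zero_of_sum_ne_zero h
        have := ih _ hi j
        simp only [Pi.add_apply, Pi.single_apply, Pi.zero_apply] at this ⊢
        split_ifs at this <;> omega
    rw [Multiset.replicate_succ, U_cons, act_mul, act_P, np, sum_smul]
    refine sum_congr rfl fun i _ => ?_
    split_ifs with hi
    · rw [ih hi (by rw [vac_mv h.1 hi.1, sum_add_single, e]; push_cast; ring), vac_mv h.1 hi.1]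
    · rw [zero_smul]
      by_contra n
      exact hi ⟨(hA.act_U _).inj n, h0 _ _ n⟩

theorem cf_T (ρ : Multiset ℕ) (α : σ → ℤ) (h : T σ ρ α ≠ 0) : Cf α := ⟨(anti_T ρ).inj h, (supp_T ρ α h).1⟩

theorem cf_δ : Cf (δ σ) ∧ Dc 1 (δ σ) := by
  refine ⟨⟨δ_inj, fun i => by simp [δ]⟩, fun i h => ⟨(Fintype.equivFin σ).symm ⟨(Fintype.equivFin σ i : ℕ) - 1, by omega⟩, ?_⟩⟩
  simp only [δ, apply_symm_apply] at h ⊢
  omega

theorem T_one {α : σ → ℤ} (h : Cf α) {m : ℕ} (e : ∑ i, α i = d0 σ + m) :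
    0 < np 1 m α ∧ ∃ ε : ℤˣ, T σ (Multiset.replicate m 1) α = ((ε : ℤ) : ℂ) * np 1 m α := by
  obtain ⟨h1, h2, -⟩ := cf_vac one_pos h
  obtain ⟨w, hw⟩ := exists_perm_dc one_pos cf_δ.1 cf_δ.2 h1 h2 (by simp)
  have e' : ∑ i, α i = ∑ i, vac 1 α i + (1 : ℕ) * m := by
    rw [e, hw, ← sum_δ]; simp [Equiv.sum_comp w (δ σ)]
  refine ⟨np_pos one_pos m h e', Perm.sign w, ?_⟩
  rw [T, path one_pos (fun α h => cf_T 0 α (by rwa [T_zero])) anti_a m h e', hw, a_comp, nsmul_eq_mul, mul_comm]

/-- the variables on the runner `s` -/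
def rn (r : σ → ℤ) (s : ℤ) : Finset σ := univ.filter fun i => r i = s

theorem Anti.act_rn {r : σ → ℤ} {F : (σ → ℤ) → Q} (h : Anti r F) (s k : ℤ) : Anti r (act (P (rn r s) k) F) :=
  h.act_P _ (fun i j e hi => by simp only [rn, mem_filter, mem_univ, true_and] at hi ⊢; rw [← e, hi]) _

theorem esymm_mem (B : Finset σ) (A : Subalgebra ℂ (R σ)) (hP : ∀ k : ℕ, 0 < k → P B (p * k) ∈ A) (k : ℕ) :
    ∑ t ∈ powersetCard k B, AddMonoidAlgebra.single (∑ i ∈ t, Pi.single i (p : ℤ)) 1 ∈ A := by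
  let φ : MvPolynomial B ℂ →ₐ[ℂ] R σ := MvPolynomial.aeval fun i => AddMonoidAlgebra.single (Pi.single i.1 (p : ℤ)) 1
  have h1 : ∀ k : ℕ, φ (MvPolynomial.psum B ℂ k) = P B (p * k) := fun k => by
    rw [MvPolynomial.psum, map_sum, P, ← sum_coe_sort B]
    refine sum_congr rfl fun i _ => ?_
    rw [map_pow, MvPolynomial.aeval_X, AddMonoidAlgebra.single_pow, one_pow, ← Pi.single_smul']
    simp [mul_comm]
  have h2 : ∀ k, φ (MvPolynomial.esymm B ℂ k) ∈ A := fun k => by
    induction k using Nat.strong_induction_on with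
    | _ k ih =>
      rcases Nat.eq_zero_or_pos k with rfl | hk
      · simp
      have := congrArg φ (MvPolynomial.mul_esymm_eq_sum B ℂ k)
      rw [map_mul, map_natCast] at this
      have h3 : φ (MvPolynomial.esymm B ℂ k) = (k : ℂ)⁻¹ • ((k : R σ) * φ (MvPolynomial.esymm B ℂ k)) := by
        rw [← nsmul_eq_mul, ← Nat.cast_smul_eq_nsmul ℂ, smul_smul, inv_mul_cancel₀ (by exact_mod_cast hk.ne'), one_smul]
      rw [h3, this]
      simp only [map_mul, map_sum, map_pow, map_neg, map_one, h1]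
      refine A.smul_mem (mul_mem (pow_mem (neg_mem (one_mem _)) _) (sum_mem fun a ha => ?_)) _
      rw [mem_filter, HasAntidiagonal.mem_antidiagonal] at ha
      exact mul_mem (mul_mem (pow_mem (neg_mem (one_mem _)) _) (ih _ ha.2)) (hP _ (by omega))
  convert h2 k using 1
  have : powersetCard k B = (powersetCard k (univ : Finset B)).map (mapEmbedding (Function.Embedding.subtype _)).toEmbedding := by
    rw [← powersetCard_map, univ_eq_attach, attach_map_val]
  rw [this, sum_map, MvPolynomial.esymm, map_sum]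
  refine sum_congr rfl fun t _ => ?_
  simp only [map_prod, φ, MvPolynomial.aeval_X, AddMonoidAlgebra.prod_single]
  simp

theorem runner (hp : 0 < p) (r : σ → ℤ) (𝒢 : Submodule ℂ ((σ → ℤ) → Q)) (hA : ∀ H ∈ 𝒢, Anti r H)
    (hP : ∀ H ∈ 𝒢, ∀ s, ∀ k : ℕ, 0 < k → act (P (rn r s) (p * k)) H ∈ 𝒢)
    (h0 : ∀ H ∈ 𝒢, ∀ κ, Cf κ → Dc p κ → (∀ i, κ i % p = r i) → H κ = 0) {α : σ → ℤ} (h : 0 ≤ α)
    (hr : ∀ i, α i % p = r i) : ∀ H ∈ 𝒢, H α = 0 := by
  let A : Subalgebra ℂ (R σ) :=
    { carrier := {x | ∀ H ∈ 𝒢, act x H ∈ 𝒢}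
      mul_mem' := fun ha hb H hH => by rw [act_mul]; exact ha _ (hb _ hH)
      add_mem' := fun ha hb H hH => by rw [map_add]; exact add_mem (ha _ hH) (hb _ hH)
      algebraMap_mem' := fun c H hH => by rw [AlgHom.commutes]; exact 𝒢.smul_mem c hH }
  induction hn : (∑ i, α i).toNat using Nat.strong_induction_on generalizing α with
  | _ n ih =>
  induction hm : (∑ i, α i ^ 2).toNat using Nat.strong_induction_on generalizing α with
  | _ m ih' =>
  intro H hH
  by_cases hi : Function.Injective α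
  swap
  · obtain ⟨i, j, e, n⟩ := Function.not_injective_iff.1 hi
    exact (hA H hH).eq_zero n (by rw [← hr, ← hr, e]) e
  by_cases hd : Dc p α
  · exact h0 H hH α ⟨hi, h⟩ hd hr
  simp only [Dc, not_forall, not_exists] at hd
  obtain ⟨i₀, h1, h2⟩ := hd
  let S₀ := (rn r (r i₀)).filter fun i => α i₀ - p < α i
  let v : Finset σ → σ → ℤ := fun t => ∑ i ∈ t, Pi.single i (p : ℤ)
  have hv : ∀ t i, v t i = if i ∈ t then (p : ℤ) else 0 := fun t i => by simp [v, Finset.sum_apply, Pi.single_apply]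
  have hv' : ∀ t, ∑ i, v t i = p * t.card := fun t => by simp [hv, mul_comm]
  have hS : ∀ i ∈ S₀, α i₀ ≤ α i := fun i hi => le_of_mod
    (by rw [hr, hr, (mem_filter.1 (mem_filter.1 hi).1).2]) (mem_filter.1 hi).2
  have hβ : 0 ≤ α - v S₀ := fun i => by
    have : 0 ≤ α i := h i
    simp only [Pi.sub_apply, hv, Pi.zero_apply]
    split_ifs with e
    · have := hS i e; omega
    · omega
  have hmod : ∀ (β : σ → ℤ) t i, (β + v t) i % p = β i % p := fun β t i => by
    rw [Pi.add_apply, hv]; split_ifs <;> simp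
  have hβr : ∀ i, (α - v S₀) i % p = r i := fun i => by rw [← hmod _ S₀, sub_add_cancel, hr]
  have hi₀ : i₀ ∈ S₀ := mem_filter.2 ⟨by simp [rn], by omega⟩
  have hc : 0 < p * S₀.card := Nat.mul_pos hp (card_pos.2 ⟨_, hi₀⟩)
  have hs : ∑ i, (α - v S₀) i = ∑ i, α i - p * S₀.card := by simp only [Pi.sub_apply, sum_sub_distrib, hv']
  have hs0 : 0 ≤ ∑ i, (α - v S₀) i := sum_nonneg fun i _ => hβ i
  have h3 := ih _ (by rw [← hn]; omega) hβ hβr rfl _
    (esymm_mem (rn r (r i₀)) A (fun k hk H hH => hP H hH _ k hk) S₀.card H hH)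
  rw [map_sum, LinearMap.sum_apply, Finset.sum_apply, sum_eq_single S₀, act_single] at h3
  · simpa [v] using h3
  · intro t ht n
    rw [act_single]
    obtain ⟨ht, hc⟩ := mem_powersetCard.1 ht
    refine ih' _ ?_ (add_nonneg hβ fun i => by simp only [hv, Pi.zero_apply]; split_ifs <;> omega)
      (fun i => (hmod _ t i).trans (hβr i)) ?_ rfl H hH
    · have e : ∀ t, ∑ i, (α - v S₀ + v t) i ^ 2 =
          ∑ i, (α - v S₀) i ^ 2 + 2 * p * ∑ i ∈ t, (α - v S₀) i + p ^ 2 * t.card := fun t => by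
        rw [mul_sum, card_eq_sum_ones, Nat.cast_sum, mul_sum, add_assoc, ← sum_add_distrib, ← univ_inter t, ← sum_ite_mem,
          ← sum_add_distrib]
        exact sum_congr rfl fun i _ => by rw [univ_inter, Pi.add_apply, hv t]; split_ifs <;> push_cast <;> ring
      have h4 : ∑ i ∈ t, (α - v S₀) i < ∑ i ∈ S₀, (α - v S₀) i := by
        rw [← sum_inter_add_sum_sdiff t S₀, ← sum_inter_add_sum_sdiff S₀ t, inter_comm]
        have h5 : ∑ i ∈ t \ S₀, (α - v S₀) i < ∑ i ∈ t \ S₀, (α i₀ - p) :=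
          sum_lt_sum_of_nonempty (sdiff_nonempty.2 fun h => n (eq_of_subset_of_card_le h hc.ge)) fun i hi => by
            obtain ⟨h6, h7⟩ := mem_sdiff.1 hi
            have := h2 i
            have : ¬ α i₀ - p < α i := fun h => h7 (mem_filter.2 ⟨ht h6, h⟩)
            rw [Pi.sub_apply, hv, if_neg h7]; omega
        have h6 : ∑ i ∈ S₀ \ t, (α i₀ - p) ≤ ∑ i ∈ S₀ \ t, (α - v S₀) i := sum_le_sum fun i hi => by
          have := hS i (mem_sdiff.1 hi).1
          rw [Pi.sub_apply, hv, if_pos (mem_sdiff.1 hi).1]; omega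
        rw [sum_const, card_sdiff_comm hc] at h5
        rw [sum_const] at h6
        omega
      have h5 := e S₀
      rw [sub_add_cancel] at h5
      have h6 : 0 ≤ ∑ i, (α - v S₀ + v t) i ^ 2 := sum_nonneg fun _ _ => sq_nonneg _
      have h7 : ∑ i, (α - v S₀ + v t) i ^ 2 < ∑ i, α i ^ 2 := by
        rw [e, h5, hc]
        have : (0 : ℤ) < p := by exact_mod_cast hp
        nlinarith
      rw [← hm]
      exact (Int.toNat_lt_toNat (h6.trans_lt h7)).2 h7
    · rw [← hn]
      congr 1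
      simp only [Pi.add_apply, sum_add_distrib, hs]
      rw [hv', hc]; ring
  · exact fun n => absurd (mem_powersetCard.2 ⟨filter_subset _ _, rfl⟩) n

end Cfsg.Agent.SymC
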