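import Cfsg.Agent.SymC.Run

/-! Coloured partitions `MS C w`, their number, and the spanning lemma `span_vanish` (helper16). -/
set_option autoImplicit false
set_option linter.unusedSectionVars false
open Equiv Finset

namespace Cfsg.Agent.SymC

section count
variable (C : Type*) [Fintype C] [DecidableEq C]

/-- partitions of `w` with coloured parts -/
def MS (w : ℕ) : Set (Multiset (C × ℕ)) := {μ | (∀ x ∈ μ, 0 < x.2) ∧ (μ.map Prod.snd).sum = w}

/-- those without parts of size one -/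
def MS2 (w : ℕ) : Set (Multiset (C × ℕ)) := {μ | (∀ x ∈ μ, 1 < x.2) ∧ (μ.map Prod.snd).sum = w}

theorem MS_zero : MS C 0 = {0} := by
  ext μ
  refine ⟨fun h => Multiset.eq_zero_of_forall_notMem fun x hx => (h.1 x hx).ne'
    (Multiset.sum_eq_zero_iff.1 h.2 _ (Multiset.mem_map_of_mem _ hx)), ?_⟩
  rintro rfl
  simp [MS]

theorem MS_succ (w : ℕ) :
    MS C (w + 1) ⊆ (fun x : C × Multiset (C × ℕ) => (x.1, 1) ::ₘ x.2) '' (Set.univ ×ˢ MS C w) ∪ MS2 C (w + 1) := by
  intro μ h
  by_cases h1 : ∃ x ∈ μ, x.2 = 1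
  · obtain ⟨⟨c, _⟩, hx, rfl⟩ := h1
    obtain ⟨ν, rfl⟩ := Multiset.exists_cons_of_mem hx
    exact .inl ⟨(c, ν), ⟨trivial, fun x hx => h.1 x (Multiset.mem_cons_of_mem hx), by have := h.2; simp at this ⊢; omega⟩, rfl⟩
  · exact .inr ⟨fun x hx => by have := h.1 x hx; have : x.2 ≠ 1 := fun e => h1 ⟨x, hx, e⟩; omega, h.2⟩

theorem exists_inj (w : ℕ) : ∃ f : Multiset (C × ℕ) → Multiset (C × ℕ),
    Set.MapsTo f (MS2 C (w + 1)) (MS C w) ∧ Set.InjOn f (MS2 C (w + 1)) := by
  have h : ∀ μ : Multiset (C × ℕ), ∃ x : Option (C × ℕ), μ ≠ 0 → ∃ y, x = some y ∧ y ∈ μ ∧ ∀ z ∈ μ, y.2 ≤ z.2 := fun μ => by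
    by_cases h0 : μ = 0
    · exact ⟨none, fun h => absurd h0 h⟩
    obtain ⟨y, h1, h2⟩ := exists_min_image μ.toFinset Prod.snd (Multiset.toFinset_nonempty.2 h0)
    exact ⟨some y, fun _ => ⟨y, rfl, by simpa using h1, by simpa using h2⟩⟩
  choose m hm using h
  have h0 : ∀ μ ∈ MS2 C (w + 1), μ ≠ 0 := fun μ h e => by simp [e, MS2] at h
  refine ⟨fun μ => (m μ).elim 0 fun y => (y.1, y.2 - 1) ::ₘ μ.erase y, fun μ h => ?_, fun μ h ν h' e => ?_⟩
  · obtain ⟨y, h1, h2, -⟩ := hm μ (h0 μ h)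
    obtain ⟨ν, rfl⟩ := Multiset.exists_cons_of_mem h2
    have h3 := h.1 y h2
    have h4 := h.2
    simp only [h1, Option.elim, Multiset.erase_cons_head]
    refine ⟨fun x hx => ?_, by simp at h4 ⊢; omega⟩
    rcases Multiset.mem_cons.1 hx with rfl | hx
    · simp; omega
    · exact (h.1 x (Multiset.mem_cons_of_mem hx)).le
  · obtain ⟨y, h1, h2, h3⟩ := hm μ (h0 μ h)
    obtain ⟨z, h4, h5, h6⟩ := hm ν (h0 ν h')
    simp only [h1, h4, Option.elim] at e
    have h7 := h.1 y h2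
    have h8 := h'.1 z h5
    have h9 : (y.1, y.2 - 1) = (z.1, z.2 - 1) := by
      by_contra n
      have a1 := (Multiset.mem_cons.1 (e ▸ Multiset.mem_cons_self _ _)).resolve_left n
      have a2 := (Multiset.mem_cons.1 (e.symm ▸ Multiset.mem_cons_self _ _)).resolve_left (Ne.symm n)
      have := h6 _ (Multiset.mem_of_mem_erase a1)
      have := h3 _ (Multiset.mem_of_mem_erase a2)
      simp at *; omega
    rw [h9, Multiset.cons_inj_right] at e
    obtain rfl : y = z := Prod.ext (Prod.ext_iff.1 h9).1 (by have := congrArg Prod.snd h9; simp at this; omega)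
    rw [← Multiset.cons_erase h2, e, Multiset.cons_erase h5]

theorem MS_finite (w : ℕ) : (MS C w).Finite := by
  induction w with
  | zero => rw [MS_zero]; simp
  | succ w ih =>
    obtain ⟨f, h1, h2⟩ := exists_inj C w
    exact (((Set.finite_univ.prod ih).image _).union (Set.Finite.of_injOn h1 h2 ih)).subset (MS_succ C w)

theorem ncard_succ (w : ℕ) : (MS C (w + 1)).ncard ≤ Fintype.card C * (MS C w).ncard + (MS2 C (w + 1)).ncard := by
  obtain ⟨f, h1, h2⟩ := exists_inj C w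
  have := MS_finite C w
  refine (Set.ncard_le_ncard (MS_succ C w) (((Set.finite_univ.prod this).image _).union
    (Set.Finite.of_injOn h1 h2 this))).trans ((Set.ncard_union_le _ _).trans (Nat.add_le_add_right
      ((Set.ncard_image_le (Set.finite_univ.prod this)).trans ?_) _))
  rw [Set.ncard_prod, Set.ncard_univ, Nat.card_eq_fintype_card]

theorem ncard_succ' (w : ℕ) : (MS C (w + 1)).ncard ≤ (Fintype.card C + 1) * (MS C w).ncard := by
  obtain ⟨f, h1, h2⟩ := exists_inj C w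
  have := Set.ncard_le_ncard_of_injOn f h1 h2 (MS_finite C w)
  have := ncard_succ C w
  linarith

theorem MS2_small {w : ℕ} (h0 : 0 < w) (h : w ≤ 3) : MS2 C w ⊆ Set.range fun c : C => {(c, w)} := by
  intro μ ⟨h1, h2⟩
  have h3 := Multiset.card_nsmul_le_sum (s := μ.map Prod.snd) (a := 2) (by
    intro x hx; obtain ⟨y, hy, rfl⟩ := Multiset.mem_map.1 hx; exact h1 y hy)
  have h4 : μ ≠ 0 := fun e => by simp [e] at h2; omega
  obtain ⟨x, rfl⟩ := Multiset.card_eq_one.1 (show μ.card = 1 by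
    have := Multiset.card_pos.2 h4; simp at h3; omega)
  exact ⟨x.1, by simp at h2; simp [← h2]⟩

theorem ncard_MS2 {w : ℕ} (h0 : 0 < w) (h : w ≤ 3) : (MS2 C w).ncard ≤ Fintype.card C :=
  (Set.ncard_le_ncard (MS2_small C h0 h)).trans (by
    rw [← Set.image_univ]; exact le_trans Set.ncard_image_le (by rw [Set.ncard_univ, Nat.card_eq_fintype_card]))

theorem MS2_one : MS2 C 1 = ∅ := Set.eq_empty_of_forall_notMem fun μ h => by
  obtain ⟨c, rfl⟩ := MS2_small C one_pos (by omega) h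
  simpa using h.1 (c, 1)

theorem ncard_lt {w : ℕ} (h : 0 < w) : (MS C w).ncard < (Fintype.card C + 1) ^ w := by
  induction w, h using Nat.le_induction with
  | base => have := ncard_succ C 0; simp [MS_zero, MS2_one] at this ⊢; omega
  | succ w _ ih => exact (ncard_succ' C w).trans_lt (by rw [pow_succ']; exact Nat.mul_lt_mul_of_pos_left ih (by omega))

theorem ncard_two : 2 * (MS C 2).ncard ≤ Fintype.card C * (Fintype.card C + 3) := by
  have h1 : MS C 2 ⊆ (fun z : Sym2 C => z.toMultiset.map (·, 1)) '' ((univ : Finset C).sym2 : Set _) ∪ MS2 C 2 := by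
    intro μ h
    rcases MS_succ C 1 h with ⟨⟨c, ν⟩, ⟨-, h1⟩, rfl⟩ | h
    · rcases MS_succ C 0 h1 with ⟨⟨d, _⟩, ⟨-, h2⟩, rfl⟩ | h
      · rw [MS_zero] at h2
        obtain rfl := h2
        exact .inl ⟨s(c, d), by simp, rfl⟩
      · simp [MS2_one] at h
    · exact .inr h
  have h2 := (Set.ncard_le_ncard h1 ((Set.toFinite _).union ((Set.finite_range _).subset
    (MS2_small C two_pos (by omega))))).trans ((Set.ncard_union_le _ _).trans
      (Nat.add_le_add Set.ncard_image_le (ncard_MS2 C two_pos (by omega))))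
  rw [Set.ncard_coe_finset, card_sym2, card_univ, Nat.choose_two_right] at h2
  have h3 := Nat.div_mul_le_self ((Fintype.card C + 1) * (Fintype.card C + 1 - 1)) 2
  simp only [Nat.add_sub_cancel] at h2 h3
  nlinarith

theorem two_ncard_lt {w : ℕ} (h : 3 ≤ w) : 2 * (MS C w).ncard < (Fintype.card C + 1) ^ w := by
  induction w, h using Nat.le_induction with
  | base =>
    have h1 := ncard_succ C 2
    have h2 := Nat.mul_le_mul_left (Fintype.card C) (ncard_two C)
    have h3 := ncard_MS2 C (w := 3) (by omega) le_rfl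
    nlinarith [Nat.zero_le (Fintype.card C)]
  | succ w _ ih =>
    have := ncard_succ' C w
    rw [pow_succ']; nlinarith

end count

variable {σ : Type*} [Fintype σ] [DecidableEq σ] {Q : Type*} [AddCommGroup Q] [Module ℂ Q] {p : ℕ}

theorem act_comp {Q' : Type*} [AddCommGroup Q'] [Module ℂ Q'] (f : Q →ₗ[ℂ] Q') (x : R σ) (F : (σ → ℤ) → Q) (α : σ → ℤ) :
    act x (f ∘ F) α = f (act x F α) := by
  induction x using AddMonoidAlgebra.induction_linear with
  | zero => simp
  | add x y h1 h2 => simp [h1, h2]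
  | single v c =>
    have : (AddMonoidAlgebra.single v c : R σ) = c • AddMonoidAlgebra.single v 1 := by simp
    rw [this, map_smul, map_smul]
    simp [act_single]

/-- product of runner power sums -/
noncomputable def Pm (p : ℕ) (r : σ → ℤ) (μ : Multiset (Fin (p - 1) × ℕ)) : R σ :=
  (μ.map fun x => P (rn r ((x.1 : ℕ) + 1)) (p * x.2)).prod

theorem Pm_cons (r : σ → ℤ) (x : Fin (p - 1) × ℕ) (μ : Multiset (Fin (p - 1) × ℕ)) :
    Pm p r (x ::ₘ μ) = P (rn r ((x.1 : ℕ) + 1)) (p * x.2) * Pm p r μ := by simp [Pm]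

theorem vanish_P {H : (σ → ℤ) → Q} (h : ∀ α, 0 ≤ α → H α = 0) (s : Finset σ) {k : ℤ} (hk : 0 ≤ k) (α : σ → ℤ) (h0 : 0 ≤ α) :
    act (P s k) H α = 0 := by
  rw [act_P]; exact sum_eq_zero fun i _ => h _ (add_nonneg h0 (Pi.single_nonneg.2 hk))

theorem deg_Pm {F : (σ → ℤ) → Q} {m : ℤ} (h : ∀ α, F α ≠ 0 → ∑ i, α i = m) (r : σ → ℤ) (μ : Multiset (Fin (p - 1) × ℕ))
    (α : σ → ℤ) (h0 : act (Pm p r μ) F α ≠ 0) : ∑ i, α i + p * (μ.map Prod.snd).sum = m := by
  induction μ using Multiset.induction_on generalizing α with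
  | empty => simpa using h α (by simpa [Pm] using h0)
  | cons x μ ih =>
    rw [Pm_cons, act_mul, act_P] at h0
    obtain ⟨i, -, hi⟩ := exists_ne_zero_of_sum_ne_zero h0
    have := ih _ hi
    rw [sum_add_single] at this
    rw [Multiset.map_cons, Multiset.sum_cons, Nat.cast_add]; linarith

theorem span_vanish (hp : 0 < p) {κ : σ → ℤ} (hκ : Cf κ) (hd : Dc p κ) {F : (σ → ℤ) → Q} (hA : Anti (fun _ => ()) F)
    (hF : ∀ k : ℕ, 0 < k → ∀ α, 0 ≤ α → act (P univ (p * k)) F α = 0)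
    (h0 : ∀ μ, (∀ x ∈ μ, 0 < x.2) → act (Pm p (fun i => κ i % p) μ) F κ = 0) {α : σ → ℤ} (h : 0 ≤ α)
    (hr : ∀ i, α i % p = κ i % p) : F α = 0 := by
  set r := fun i => κ i % p
  let V := Submodule.span ℂ (Pm p r '' {μ | ∀ x ∈ μ, 0 < x.2})
  let 𝒢 : Submodule ℂ ((σ → ℤ) → Q) :=
    { carrier := {H | Anti r H ∧ ∃ y ∈ V, ∀ α, 0 ≤ α → H α = act y F α}
      add_mem' := fun ⟨h1, y, hy, h2⟩ ⟨h3, z, hz, h4⟩ => ⟨fun w hw α => by simp [h1 w hw, h3 w hw], y + z, add_mem hy hz,
        fun α h => by simp [h2 α h, h4 α h]⟩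
      zero_mem' := ⟨fun _ _ _ => by simp, 0, zero_mem _, by simp⟩
      smul_mem' := fun c H ⟨h1, y, hy, h2⟩ => ⟨fun w hw α => by simp [h1 w hw, smul_comm c], c • y, V.smul_mem c hy,
        fun α h => by simp [h2 α h]⟩ }
  have h1 : ∀ (c : Fin (p - 1)) (k : ℕ), 0 < k → ∀ y ∈ V, P (rn r ((c : ℕ) + 1)) (p * k) * y ∈ V := fun c k hk y hy => by
    induction hy using Submodule.span_induction with
    | mem y hy =>
      obtain ⟨μ, hμ, rfl⟩ := hy
      exact Submodule.subset_span ⟨(c, k) ::ₘ μ, Multiset.forall_mem_cons.2 ⟨hk, hμ⟩, Pm_cons _ _ _⟩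
    | zero => simp
    | add _ _ _ _ a b => rw [mul_add]; exact add_mem a b
    | smul c _ _ a => rw [mul_smul_comm]; exact V.smul_mem c a
  have h2 : ∀ H : (σ → ℤ) → Q, (∀ α, 0 ≤ α → H α = 0) → ∀ y ∈ V, ∀ α, 0 ≤ α → act y H α = 0 := fun H hH y hy => by
    induction hy using Submodule.span_induction with
    | mem y hy =>
      obtain ⟨μ, -, rfl⟩ := hy
      induction μ using Multiset.induction_on with
      | empty => simpa [Pm] using hH
      | cons x μ ih => rw [Pm_cons, act_mul]; exact vanish_P ih _ (by positivity)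
    | zero => simp
    | add _ _ _ _ a b => exact fun α h => by simp [a α h, b α h]
    | smul c _ _ a => exact fun α h => by simp [a α h]
  refine runner hp r 𝒢 (fun H h => h.1) (fun H ⟨h3, y, hy, h4⟩ s k hk => ⟨h3.act_rn _ _, ?_⟩)
    (fun H ⟨h3, y, hy, h4⟩ κ' h5 h6 h7 => ?_) h hr F ⟨hA.mono r, 1, Submodule.subset_span ⟨0, by simp, by simp [Pm]⟩, by simp⟩
  · have h5 : ∀ t α, 0 ≤ α → act (P t (p * k)) H α = act (P t (p * k) * y) F α := fun t α h => by
      have := vanish_P (H := H - act y F) (fun α h => sub_eq_zero.2 (h4 α h)) t (k := p * k) (by positivity) α h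
      rwa [map_sub, Pi.sub_apply, sub_eq_zero, ← act_mul] at this
    by_cases h6 : ∃ c : Fin (p - 1), s = (c : ℕ) + 1
    · obtain ⟨c, rfl⟩ := h6
      exact ⟨_, h1 c k hk y hy, h5 _⟩
    have hr : ∀ i, r i = 0 ∨ ∃ c : Fin (p - 1), r i = (c : ℕ) + 1 := fun i => by
      have a1 : 0 ≤ r i := Int.emod_nonneg _ (by omega)
      have a2 : r i < p := Int.emod_lt_of_pos _ (by omega)
      by_cases e : r i = 0
      · exact .inl e
      · exact .inr ⟨⟨(r i - 1).toNat, by omega⟩, by simp; omega⟩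
    by_cases h7 : s = 0
    · have h8 : (P univ (p * k) : R σ) = P (rn r s) (p * k) + ∑ c : Fin (p - 1), P (rn r ((c : ℕ) + 1)) (p * k) := by
        simp only [P, rn, sum_filter]
        rw [sum_comm, ← sum_add_distrib]
        refine sum_congr rfl fun i _ => ?_
        rcases hr i with e | ⟨c, e⟩
        · rw [if_pos (e.trans h7.symm), sum_eq_zero fun c _ => if_neg (by omega), add_zero]
        · rw [if_neg (by omega), sum_eq_single c (fun d _ n => if_neg fun e' => n (Fin.ext (by omega))) (by simp),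
            if_pos e, zero_add]
      refine ⟨_, neg_mem (sum_mem fun c (_ : c ∈ univ) => h1 c k hk y hy), fun α h => ?_⟩
      have := h2 _ (hF k hk) y hy α h
      rw [← act_mul, mul_comm, h8, add_mul, map_add, sum_mul] at this
      rw [h5 _ α h, map_neg]
      exact eq_neg_of_add_eq_zero_left this
    · refine ⟨0, zero_mem _, fun α _ => ?_⟩
      rw [act_P, sum_eq_zero fun i hi => ?_]
      · simp
      rcases hr i with e | ⟨c, e⟩
      · exact absurd ((mem_filter.1 hi).2.symm.trans e) h7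
      · exact absurd ⟨c, (mem_filter.1 hi).2.symm.trans e⟩ h6
  · obtain ⟨w, rfl⟩ := exists_perm_dc hp hκ hd h5 h6 h7
    rw [h3 w h7, h4 κ hκ.2]
    refine smul_eq_zero_of_right _ ?_
    clear h4
    induction hy using Submodule.span_induction with
    | mem y hy => obtain ⟨μ, hμ, rfl⟩ := hy; exact h0 μ hμ
    | zero => simp
    | add _ _ _ _ a b => simp [a, b]
    | smul c _ _ a => simp [a]

end Cfsg.Agent.SymC
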