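import Cfsg.Agent.SymC.Char
import Cfsg.Agent.SymC.Span
import Cfsg.Agent.BMod.Rank2

/-! Characters of symmetric groups with a given `p`-core (helper16): `Cls p κ χ`; blocks lie in one class
(`exists_cls`), the rank bound `exists_span`, the weight bound `Cls.sum_le`, the values `Cls.val`. -/
set_option autoImplicit false
set_option linter.unusedSectionVars false
open Equiv Finset Cfsg.Agent.Char Cfsg.Agent.BMod Cfsg.Agent.Block
open scoped ComplexConjugate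

namespace Cfsg.Agent.SymC

variable {σ : Type*} [Fintype σ] [DecidableEq σ] {Ω : Type*} [Fintype Ω] [DecidableEq Ω] {p : ℕ} [hp : Fact p.Prime]

theorem dvd_orderOf_iff (g : Perm Ω) : p ∣ orderOf g ↔ ∃ k ∈ g.partition.parts, p ∣ k := by
  rw [← Perm.lcm_cycleType, Perm.parts_partition]
  constructor
  · intro h
    obtain ⟨k, h1, h2⟩ := hp.out.prime.exists_mem_multiset_dvd
      (h.trans (Multiset.lcm_dvd.2 fun b hb => Multiset.dvd_prod hb))
    exact ⟨k, Multiset.mem_add.2 (.inl h1), h2⟩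
  · rintro ⟨k, h1, h2⟩
    rcases Multiset.mem_add.1 h1 with h | h
    · exact h2.trans (Multiset.dvd_lcm h)
    · rw [Multiset.eq_of_mem_replicate h, Nat.dvd_one] at h2
      exact absurd h2 hp.out.ne_one

theorem down_reg (hN : 2 * Fintype.card Ω ≤ Fintype.card σ) {g : Perm Ω} (hg : ¬ p ∣ orderOf g) {k : ℕ} (hk : 0 < k)
    (hd : p ∣ k) {α : σ → ℤ} (h : 0 ≤ α) : act (P univ k) (T σ g.partition.parts) α = 0 := by
  have := congrFun (down_T (σ := σ) g.partition.parts (by rwa [g.partition.parts_sum]) hk) α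
  rw [Multiset.count_eq_zero_of_notMem fun n => hg ((dvd_orderOf_iff g).2 ⟨k, n, hd⟩), tr, if_pos h] at this
  simpa using this

theorem add_mod (α : σ → ℤ) (i j : σ) {k : ℤ} (h : (p : ℤ) ∣ k) : (α + Pi.single i k : σ → ℤ) j % p = α j % p := by
  obtain ⟨t, rfl⟩ := h
  rw [Pi.add_apply, Pi.single_apply]; split_ifs <;> simp

theorem sep (hN : 2 * Fintype.card Ω ≤ Fintype.card σ) {α β : σ → ℤ} (h : ctr p (th σ α : Perm Ω → ℂ) (th σ β) ≠ 0) :
    ∃ w : Perm σ, ∀ i, α (w i) % p = β i % p := by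
  classical
  by_contra hn
  let Ty : (σ → ℤ) → Prop := fun α => ∃ w : Perm σ, ∀ i, α (w i) % p = β i % p
  let F : (σ → ℤ) → ℂ := ∑ g : Perm Ω, rho p (th σ β) g • T σ g.partition.parts
  have hF : ∀ γ, F γ = ∑ g : Perm Ω, rho p (th σ β) g * th σ γ g := fun γ => by simp [F, th]
  let F' : (σ → ℤ) → ℂ := fun γ => if Ty γ then 0 else F γ
  have h1 : ∀ g : Perm Ω, p ∣ orderOf g → ∑ γ ∈ S σ (d0 σ + Fintype.card Ω), th σ γ g * F' γ = 0 := fun g hg => by
    obtain ⟨k, h1, h2⟩ := (dvd_orderOf_iff g).1 hg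
    obtain ⟨ρ, hρ⟩ := Multiset.exists_cons_of_mem h1
    have hk := g.partition.parts_pos h1
    have h3 := g.partition.parts_sum
    rw [hρ, Multiset.sum_cons] at h3
    simp only [th, hρ, T_cons]
    rw [← h3, show d0 σ + ((k + ρ.sum : ℕ) : ℤ) = d0 σ + ρ.sum + k by push_cast; ring, adj (supp_T ρ)]
    refine sum_eq_zero fun γ hγ => mul_eq_zero_of_right _ ?_
    rw [tr, if_pos (mem_S.1 hγ).1, act_P]
    have e : ∀ i, Ty (γ + Pi.single i (k : ℤ)) ↔ Ty γ := fun i => by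
      simp only [Ty, add_mod γ i _ (Int.natCast_dvd_natCast.2 h2)]
    simp only [F', e]
    split_ifs
    · simp
    rw [← act_P, map_sum, Finset.sum_apply]
    refine sum_eq_zero fun g _ => ?_
    rw [map_smul, Pi.smul_apply]
    by_cases hg : p ∣ orderOf g
    · rw [rho_apply_of_dvd _ hg, zero_smul]
    · rw [down_reg hN hg hk h2 (mem_S.1 hγ).1, smul_zero]
  have h2 : ∑ γ ∈ S σ (d0 σ + Fintype.card Ω), F γ * F' γ = 0 := by
    simp only [hF, sum_mul]
    rw [sum_comm, sum_congr rfl (g := fun g => ∑ γ ∈ S σ (d0 σ + Fintype.card Ω), th σ β g * th σ γ g * F' γ) fun g _ => by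
      simp only [mul_assoc, ← mul_sum]
      by_cases hg : p ∣ orderOf g
      · rw [h1 g hg, mul_zero, mul_zero]
      · rw [rho_apply_of_not_dvd _ hg], sum_comm]
    refine sum_eq_zero fun γ _ => ?_
    rw [← sum_mul]
    by_cases h3 : classInner (th σ β : Perm Ω → ℂ) (th σ γ) = 0
    · have := card_mul_classInner (th σ β : Perm Ω → ℂ) (th σ γ)
      simp only [h3, conj_th, mul_zero] at this
      rw [← this, zero_mul]
    · obtain ⟨w, rfl⟩ := exists_perm hN h3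
      rw [show F' _ = 0 from if_pos ⟨w⁻¹, by simp⟩, mul_zero]
  have h3 : ∀ γ, F γ * F' γ = ((‖F' γ‖ ^ 2 : ℝ) : ℂ) := fun γ => by
    simp only [F']
    split_ifs
    · simp
    · have : conj (F γ) = F γ := by
        rw [hF, map_sum]
        exact sum_congr rfl fun g _ => by rw [map_mul, conj_th, rho_apply]; split_ifs <;> simp [conj_th]
      rw [← Complex.normSq_eq_norm_sq, Complex.normSq_eq_conj_mul_self, this]
  simp only [h3] at h2
  have h0 : (th σ α : Perm Ω → ℂ) ≠ 0 := fun e => h (by rw [e, ctr, map_zero, classInner_zero_left])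
  have h4 := (sum_eq_zero_iff_of_nonneg (f := fun γ => ‖F' γ‖ ^ 2) fun _ _ => sq_nonneg _).1 (by exact_mod_cast h2) α (mem_S.2 (th_supp h0).2)
  rw [sq_eq_zero_iff, norm_eq_zero, show F' α = F α from if_neg hn, hF] at h4
  refine h ?_
  rw [ctr, classInner_rho, ← conj_classInner, classInner_def]
  simp [conj_th, h4]

/-- `χ` has the `p`-core `κ` -/
def Cls (p : ℕ) (κ : σ → ℤ) (χ : Perm Ω → ℂ) : Prop :=
  ∃ (α : σ → ℤ) (ε : ℤˣ), th σ α = ((ε : ℤ) : ℂ) • χ ∧ ∀ i, α i % p = κ i % p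

/-- a core of weight `w` -/
structure Core (p : ℕ) (Ω : Type*) [Fintype Ω] (κ : σ → ℤ) (w : ℕ) : Prop where
  cf : Cf κ
  dc : Dc p κ
  sum : ∑ i, κ i + p * w = d0 σ + Fintype.card Ω

theorem cf_th {α : σ → ℤ} {ε : ℤˣ} {χ : IrrCharacter (Perm Ω)} (h : th σ α = ((ε : ℤ) : ℂ) • χ.1) :
    Cf α ∧ ∑ i, α i = d0 σ + Fintype.card Ω := by
  have := th_supp (h ▸ smul_ne_zero (by simp) χ.2.ne_zero : (th σ α : Perm Ω → ℂ) ≠ 0)
  exact ⟨⟨this.1, this.2.1⟩, this.2.2⟩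

theorem exists_cls (hN : 2 * Fintype.card Ω ≤ Fintype.card σ) {M : Ideal AlgInt} [PMod p M]
    {B : Set (IrrCharacter (Perm Ω))} (hB : IsPBlock M B) :
    ∃ (κ : σ → ℤ) (w : ℕ), Core p Ω κ w ∧ ∀ χ ∈ B, Cls p κ χ.1 := by
  obtain ⟨ψ, hψ, h0⟩ := exists_height_zero p (IsPBlock.nonempty hB)
  obtain ⟨β, η, hβ⟩ := exists_th hN ψ
  obtain ⟨h1, h2, w, h3⟩ := cf_vac hp.out.pos (cf_th hβ).1
  refine ⟨vac p β, w, ⟨h1, h2, by rw [← h3, (cf_th hβ).2]⟩, fun χ hχ => ?_⟩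
  obtain ⟨α, ε, hα⟩ := exists_th hN χ
  obtain ⟨m, h4, h5⟩ := exists_ctr_eq (p := p) hB hχ ψ
  obtain ⟨u, hu⟩ := sep (p := p) hN (α := α) (β := β) (by
    rw [hα, hβ, ctr_smul_left, ctr_smul_right]
    refine mul_ne_zero (by simp) (mul_ne_zero (by simp) fun e => h5.2 ⟨hψ, h0⟩ ?_)
    rw [e, mul_zero, eq_comm, mul_eq_zero] at h4
    simp [(by exact_mod_cast h4.resolve_left (pow_ne_zero _ (Nat.cast_ne_zero.2 hp.out.ne_zero)) : m = 0)])
  exact ⟨α ∘ u, Perm.sign u * ε, by rw [th_comp, hα, smul_smul]; simp, fun i => by rw [vac_mod]; exact hu i⟩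

variable {κ : σ → ℤ} {w : ℕ}

theorem exists_span (hN : 2 * Fintype.card Ω ≤ Fintype.card σ) (hκ : Core p Ω κ w) :
    ∃ V : Submodule ℂ (Perm Ω → ℂ), Module.finrank ℂ V ≤ (MS (Fin (p - 1)) w).ncard ∧ ∀ χ, Cls p κ χ → rho p χ ∈ V := by
  classical
  let G₀ : (σ → ℤ) → Perm Ω → ℂ := fun α => rho p (th σ α)
  let s := (MS_finite (Fin (p - 1)) w).toFinset.image fun μ => act (Pm p (fun i => κ i % p) μ) G₀ κ
  refine ⟨Submodule.span ℂ s, (finrank_span_finset_le_card s).trans (card_image_le.trans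
    (Set.ncard_eq_toFinset_card _ _).ge), ?_⟩
  rintro χ ⟨α, ε, h1, h2⟩
  have h3 : χ = ((ε : ℤ) : ℂ) • th σ α := by rw [h1, smul_smul, ← Int.cast_mul, ← Units.val_mul, Int.units_mul_self]; simp
  rw [h3, map_smul]
  refine Submodule.smul_mem _ _ ?_
  by_cases h0 : (th σ α : Perm Ω → ℂ) = 0
  · simp [h0]
  rw [← Submodule.Quotient.mk_eq_zero]
  refine span_vanish (F := (Submodule.span ℂ (s : Set (Perm Ω → ℂ))).mkQ ∘ G₀) hp.out.pos hκ.cf hκ.dc
    (fun u _ γ => by simp [G₀, th_comp]) (fun k hk γ hγ => ?_) (fun μ hμ => ?_) (th_supp h0).2.1 h2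
  · rw [act_comp, show act _ G₀ γ = 0 from funext fun g => ?_, map_zero]
    rw [act_P, Finset.sum_apply]
    by_cases hg : p ∣ orderOf g
    · simp [G₀, rho_apply_of_dvd _ hg]
    · have := down_reg hN hg (k := p * k) (Nat.mul_pos hp.out.pos hk) (dvd_mul_right _ _) hγ
      rw [act_P] at this
      simpa [G₀, rho_apply_of_not_dvd _ hg, th] using this
  · rw [act_comp, Submodule.mkQ_apply, Submodule.Quotient.mk_eq_zero]
    by_cases h4 : act (Pm p (fun i => κ i % p) μ) G₀ κ = 0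
    · simp [h4]
    have := deg_Pm (m := d0 σ + Fintype.card Ω) (fun γ h => (th_supp fun e => h (by simp [G₀, e])).2.2) _ μ κ h4
    rw [← hκ.sum, add_right_inj, mul_right_inj' (by exact_mod_cast hp.out.ne_zero), Nat.cast_inj] at this
    exact Submodule.subset_span (mem_image_of_mem _ ((Set.Finite.mem_toFinset _).2 ⟨hμ, this⟩))

theorem Core.vac_eq (hκ : Core p Ω κ w) {α : σ → ℤ} (h : Cf α) (e : ∀ i, α i % p = κ i % p) :
    ∃ u : Perm σ, vac p α = κ ∘ u :=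
  exists_perm_dc hp.out.pos hκ.cf hκ.dc (cf_vac hp.out.pos h).1 (cf_vac hp.out.pos h).2.1 fun i => by rw [vac_mod, e]

theorem Cls.sum_le (hκ : Core p Ω κ w) {χ : Perm Ω → ℂ} (h : Cls p κ χ) {g : Perm Ω} (hg : χ g ≠ 0) :
    (g.partition.parts.filter (p ∣ ·)).sum ≤ p * w := by
  obtain ⟨α, ε, h1, h2⟩ := h
  have h3 : th σ α g ≠ 0 := by rw [h1]; simpa using hg
  have h4 : ∀ (ρ : Multiset ℕ) (F : (σ → ℤ) → ℂ) α, (∀ k ∈ ρ, p ∣ k) → act (U ρ) F α ≠ 0 →
      ∃ β, F β ≠ 0 ∧ ∀ i, β i % p = α i % p := fun ρ F => by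
    induction ρ using Multiset.induction_on with
    | empty => exact fun α _ h => ⟨α, by simpa [U] using h, fun _ => rfl⟩
    | cons k ρ ih =>
      intro α hk h
      rw [U_cons, act_mul, act_P] at h
      obtain ⟨i, -, hi⟩ := exists_ne_zero_of_sum_ne_zero h
      obtain ⟨β, h1, h2⟩ := ih _ (fun l hl => hk l (Multiset.mem_cons_of_mem hl)) hi
      exact ⟨β, h1, fun j => (h2 j).trans (add_mod _ _ _ (by simpa [Int.natCast_dvd_natCast] using hk k (by simp)))⟩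
  have h5 := g.partition.parts_sum
  rw [th, ← Multiset.filter_add_not (p ∣ ·) g.partition.parts, T_add] at h3
  rw [← Multiset.filter_add_not (p ∣ ·) g.partition.parts, Multiset.sum_add] at h5
  obtain ⟨β, h6, h7⟩ := h4 _ _ _ (fun k hk => (Multiset.mem_filter.1 hk).2) h3
  obtain ⟨u, hu⟩ := hκ.vac_eq (cf_T _ _ h6) fun i => (h7 i).trans (h2 i)
  have h8 : ∑ i, vac p β i ≤ ∑ i, β i := sum_le_sum fun i _ => vac_le hp.out.pos (cf_T _ _ h6) i
  rw [hu, (supp_T _ β h6).2] at h8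
  have h9 := hκ.sum
  have h10 : ∑ i, (κ ∘ u) i = ∑ i, κ i := Equiv.sum_comp u κ
  have : ((g.partition.parts.filter (p ∣ ·)).sum : ℤ) ≤ p * w := by omega
  exact_mod_cast this

theorem Core.val (hκ : Core p Ω κ w) {α : σ → ℤ} (h : Cf α) (hs : ∑ i, α i = d0 σ + Fintype.card Ω)
    (e : ∀ i, α i % p = κ i % p) : 0 < np p w α ∧ ∃ ε : ℤˣ, ∀ (g : Perm Ω) (τ : Multiset ℕ),
      g.partition.parts = Multiset.replicate w p + τ → th σ α g = ((ε : ℤ) : ℂ) * np p w α * T σ τ κ := by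
  obtain ⟨u, hu⟩ := hκ.vac_eq h e
  have h1 : ∑ i, α i = ∑ i, vac p α i + p * w := by rw [hu, hs, ← hκ.sum]; simp [Equiv.sum_comp u κ]
  refine ⟨np_pos hp.out.pos w h h1, Perm.sign u, fun g τ hg => ?_⟩
  rw [th, hg, T_add, path hp.out.pos (cf_T τ) (anti_T τ) w h h1, hu, anti_T τ u fun _ => rfl]
  simp; ring

theorem Core.T_ne (hκ : Core p Ω κ w) {m : ℕ} (h : p * w + m = Fintype.card Ω) : T σ (Multiset.replicate m 1) κ ≠ 0 := by
  obtain ⟨h1, ε, h2⟩ := T_one hκ.cf (m := m) (by have := hκ.sum; rw [← h] at this; push_cast at this; omega)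
  rw [h2]
  exact mul_ne_zero (by simp) (Nat.cast_ne_zero.2 h1.ne')

theorem Core.le (hκ : Core p Ω κ w) : p * w ≤ Fintype.card Ω := by
  have := d0_le hκ.cf.1 hκ.cf.2
  have := hκ.sum
  have : ((p * w : ℕ) : ℤ) ≤ Fintype.card Ω := by push_cast; omega
  exact_mod_cast this

end Cfsg.Agent.SymC
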