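import Cfsg.Agent.SymC.Blk
import Cfsg.Agent.BMod.IBr
import Cfsg.Agent.BMod.Cover3

/-! Defect groups of blocks of symmetric groups are Sylow subgroups of `S_{pw}` (`exists_struct`); the rank of a block
of a subgroup of index two (`rank_le_two_mul`) (helper16). -/
set_option autoImplicit false
set_option linter.unusedSectionVars false
open Equiv Finset Cfsg.Agent.Char Cfsg.Agent.BMod Cfsg.Agent.Block Cfsg.Agent.Transfer Cfsg.Agent.CharDeep
open scoped Pointwise

namespace Cfsg.Agent.SymC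

variable {σ : Type*} [Fintype σ] [DecidableEq σ] {Ω : Type*} [Fintype Ω] [DecidableEq Ω] {p : ℕ} [hp : Fact p.Prime]
variable {κ : σ → ℤ} {w : ℕ}

theorem card_SY (Y : Finset Ω) : Nat.card (SY Y) = (#Y).factorial := by
  rw [← Fintype.card_coe, ← Fintype.card_perm, ← Nat.card_eq_fintype_card]
  exact (Nat.card_congr (Perm.subtypeEquivSubtypePerm (· ∈ Y))).symm

theorem exists_type_SY (Y : Finset Ω) {m : Multiset ℕ} (h : m.sum ≤ #Y) (h2 : ∀ a ∈ m, 2 ≤ a) :
    ∃ x ∈ SY Y, x.cycleType = m := by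
  obtain ⟨x, hx⟩ := (Perm.exists_with_cycleType_iff Y (m := m)).2 ⟨by simpa using h, h2⟩
  exact ⟨Perm.ofSubtype x, fun a ha => Perm.ofSubtype_apply_of_not_mem _ ha, by rw [Perm.cycleType_ofSubtype, hx]⟩

theorem exists_type_SY' (Y : Finset Ω) (h : p * w ≤ #Y) : ∃ x ∈ SY Y, x.cycleType = Multiset.replicate w p :=
  exists_type_SY Y (by simpa [mul_comm] using h) fun a ha => Multiset.eq_of_mem_replicate ha ▸ hp.out.two_le

theorem card_sylow_SY {Y : Finset Ω} {P : Subgroup (Perm Ω)} (h : IsSylowIn p P (SY Y)) (h1 : p * w ≤ #Y)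
    (h2 : #Y < p * (w + 1)) : Nat.card P = p ^ (w + padicValNat p w.factorial) := by
  obtain ⟨k, hk⟩ := IsPGroup.iff_card.1 h.isPGroup
  have := factorization_card_of_isSylowIn h
  obtain ⟨r, hr⟩ := Nat.exists_eq_add_of_le h1
  rw [hk, card_SY, Nat.Prime.factorization_pow hp.out, Finsupp.single_eq_same, Nat.factorization_def _ hp.out, hr,
    padicValNat_factorial_mul_add _ (by rw [hr, mul_add_one] at h2; omega), padicValNat_factorial_mul] at this
  rw [hk, this, add_comm]

theorem conj_SY (c : Perm Ω) (Y : Finset Ω) : MulAut.conj c • SY Y = SY (Y.map c.toEmbedding) := by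
  ext g
  rw [Subgroup.mem_pointwise_smul_iff_inv_smul_mem]
  refine c.forall_congr fun a => ?_
  simp [Perm.inv_eq_iff_eq, symm_apply_eq]

variable {M : Ideal AlgInt} [PMod p M] {B : Set (IrrCharacter (Perm Ω))}

theorem order_of_type {x : Perm Ω} (hx : x.cycleType = Multiset.replicate w p) : ∃ k, orderOf x = p ^ k :=
  IsPPart.orderOf_eq (isPPart_self (pow_eq_one_of_type hx))

theorem exists_struct (hB : IsPBlock M B) (hκ : Core p Ω κ w) (hc : ∀ χ ∈ B, Cls p κ χ.1) {P : Subgroup (Perm Ω)}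
    (hP : IsDefectGroup p M B P) : ∃ y Y, IsDefectClass M B y ∧ IsSylowIn p P (Subgroup.centralizer {y}) ∧ #Y = p * w ∧
      (∀ a ∈ Y, y a = a) ∧ IsSylowIn p P (SY Y) := by
  obtain ⟨y, hy, h2⟩ := IsDefectGroup.exists_class hP
  obtain ⟨x, h3, h4⟩ := exists_fix hB hκ hc hP hy h2.le
  let Y := univ.filter fun a => y a = a
  have hY : ∀ a ∈ Y, y a = a := fun a ha => (mem_filter.1 ha).2
  have hxY : x.support ⊆ Y := fun a ha => mem_filter.2 ⟨mem_univ _, h4 a ha⟩
  have h5 : #Y < p * (w + 1) := lt_of_not_ge fun h => by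
    obtain ⟨z, h1, h2⟩ := exists_type_SY' Y h
    have := support_le hB hκ hc hy (Subgroup.mem_centralizer_singleton_iff.1 (SY_le hY h1)) (order_of_type h2)
    rw [card_support_type h2, mul_add_one] at this
    have := hp.out.pos; omega
  have h6 : P ≤ SY Y := fun v hv => by
    have hvy : Commute v y := Subgroup.mem_centralizer_singleton_iff.1 (h2.le hv)
    have h7 : ∀ a, v a ∉ Y ↔ a ∉ Y := fun a => by
      simp only [Y, mem_filter, mem_univ, true_and]
      rw [← Perm.mul_apply, ← hvy.eq, Perm.mul_apply, v.injective.eq_iff]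
    let u := Perm.ofSubtype (v.subtypePerm (p := (· ∉ Y)) h7)
    have h8 : ∀ a ∉ Y, u a = v a := fun a ha => Perm.ofSubtype_apply_of_mem (p := (· ∉ Y)) _ ha
    have h9 : ∀ a ∈ Y, u a = a := fun a ha => Perm.ofSubtype_apply_of_not_mem (p := (· ∉ Y)) _ (not_not.2 ha)
    have hd : Perm.Disjoint x u := fun a => by
      by_cases ha : a ∈ Y
      exacts [.inr (h9 a ha), .inl (Perm.notMem_support.1 (mt (hxY ·) ha))]
    obtain ⟨k, hk⟩ := orderOf_eq_pow_of_mem h2.isPGroup hv
    have h10 : u ^ p ^ k = 1 := by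
      rw [← map_pow, Perm.subtypePerm_pow]; simp only [← hk, pow_orderOf_eq_one]; exact map_one _
    have h11 : Commute u y := Perm.ext fun a => by
      by_cases ha : a ∈ Y
      · simp [h9 a ha, hY a ha]
      · rw [Perm.mul_apply, Perm.mul_apply, h8 a ha, h8 _ fun e => ha (mem_filter.2 ⟨mem_univ _, y.injective (hY _ e)⟩)]
        exact DFunLike.congr_fun hvy.eq a
    have := support_le hB hκ hc hy (Commute.mul_left (Subgroup.mem_centralizer_singleton_iff.1 (SY_le hY fun a ha =>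
      Perm.notMem_support.1 (mt (hxY ·) ha))) h11) (by
        obtain ⟨j, -, hj⟩ := (Nat.dvd_prime_pow hp.out (m := k + 1)).1 (orderOf_dvd_of_pow_eq_one (x := x * u) (by
          rw [hd.commute.mul_pow, pow_succ', pow_mul, pow_eq_one_of_type h3, mul_comm p, pow_mul, h10]; simp))
        exact ⟨j, hj⟩)
    rw [hd.card_support_mul, card_support_type h3, add_le_iff_nonpos_right, nonpos_iff_eq_zero, Perm.card_support_eq_zero]
      at this
    intro a ha
    rw [← h8 a ha, this, Perm.one_apply]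
  obtain ⟨Q⟩ := Sylow.nonempty (p := p) (G := SY x.support)
  have hQ := isSylowIn_map_subtype Q
  obtain ⟨c, hc1, hc2⟩ := h2.exists_conj_le hQ.isPGroup (hQ.le.trans (SY_le h4))
  have h7 := hQ.conj c
  have h8 := card_support_type h3
  rw [conj_SY] at h7
  have h9 : MulAut.conj c • _ = P := Subgroup.eq_of_le_of_card_ge hc2 (by
    rw [card_sylow_SY (h2.of_le h6 (SY_le hY)) (h8.ge.trans (card_le_card hxY)) h5,
      card_sylow_SY (w := w) h7 (by simp [h8]) (by simp [h8, hp.out.pos])])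
  refine ⟨y, _, hy, h2, by simp [h8], fun a ha => ?_, h9 ▸ h7⟩
  obtain ⟨b, hb, rfl⟩ := mem_map.1 ha
  have := DFunLike.congr_fun (Subgroup.mem_centralizer_singleton_iff.1 hc1) b
  simpa [h4 b hb] using this.symm

section Idx
open MonoidAlgebra
variable {N : Type*} [Group N] [Fintype N] {b : Set (IrrCharacter N)}

theorem ev_lfi_domCongr (τ : N ≃* N) {θ : N → ℂ} (hθ : IsClassFunction N θ) {f : (F M)[N]} (hf : IsIdempotentElem f) :
    ev θ (lfi (domCongr (F M) (F M) τ f)) = ev (fun n => θ (τ n)) (lfi f) := by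
  obtain ⟨h1, h2, h3⟩ := lfi_spec hf
  have : domCongr (F M) (F M) τ f = redA M (domCongr ℂ ℂ τ (lfi f)) := by
    conv_lhs => rw [← h3]
    ext g; simp
  rw [this, ev_lfi_redA hθ (fun g => by simpa using h1 _) (h2.map _), ev_eq_sum, ev_eq_sum, ← τ.toEquiv.sum_comp]
  simp

theorem rank_le_two_mul (hb : IsBlockUnion M b) (τ : N ≃* N) (n : N) (hτ : ∀ a, τ (τ a) = n * a * n⁻¹)
    (W : Submodule ℂ (N → ℂ)) (hW : ∀ θ ∈ b, rho p (θ.1 + fun a => θ.1 (τ a)) ∈ W) :
    blockRank p b ≤ 2 * Module.finrank ℂ W := by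
  classical
  have := finite_pt (F M) (F M)[N]
  have := Fintype.ofFinite (PtB (eB M b))
  let t := domCongr (F M) (F M) τ
  have ht : ∀ γ : Pt (F M)[N], IsLoc (t γ.out.1) := fun γ => γ.out.2.map_equiv t.toRingEquiv
  obtain ⟨π, h1⟩ : ∃ π : Pt (F M)[N] → Pt (F M)[N], ∀ γ δ, Eqv δ.out.1 (t γ.out.1) ↔ δ = π γ :=
    ⟨fun γ => ⟦⟨t γ.out.1, ht γ⟩⟧, fun γ δ => by
      rw [← eqv_out_iff' (ht γ)]
      exact ⟨Eqv.symm, Eqv.symm⟩⟩
  have h2 : ∀ γ, π (π γ) = γ := fun γ => by
    rw [eq_comm, ← h1]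
    refine Eqv.trans ?_ (((h1 γ _).2 rfl).symm.map t.toRingEquiv.toRingHom) γ.out.2.idem (ht _).idem
    have : t (t γ.out.1) = single n 1 * γ.out.1 * single n⁻¹ 1 := by
      generalize γ.out.1 = x
      induction x using MonoidAlgebra.induction_linear with
      | zero => simp
      | add x y hx hy => simp only [map_add, hx, hy, mul_add, add_mul]
      | single a r => simp [t, hτ, single_mul_single]
    refine ⟨γ.out.1 * single n⁻¹ 1, single n 1 * γ.out.1, ?_, ?_⟩
    · rw [mul_assoc, ← mul_assoc (single _ _), single_mul_single, inv_mul_cancel, one_mul, ← MonoidAlgebra.one_def, one_mul,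
        γ.out.2.idem.eq]
    · rw [mul_assoc, ← mul_assoc γ.out.1, γ.out.2.idem.eq, ← mul_assoc, ← this]; rfl
  choose θ h3 h4 h5 using fun γ : PtB (eB M b) => exists_gen_dual hb γ.1.out.2 γ.2
  have hc : ∀ γ, IsClassFunction N (θ γ) := fun γ => h4 γ ▸ isClassFunction_blockPart b _
  have hc' : ∀ γ, IsClassFunction N (θ γ + fun a => θ γ (τ a)) := fun γ g h => by
    simp only [Pi.add_apply, map_mul, map_inv, hc γ _ _]
  let g : PtB (eB M b) → Sym2 (Pt (F M)[N]) := fun γ => s(γ.1, π γ.1)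
  have h6 : ∀ γ, rho p (θ γ + fun a => θ γ (τ a)) ∈ W := fun γ => by
    let L : (N → ℂ) →ₗ[ℂ] (N → ℂ) := rho p ∘ₗ (LinearMap.id + LinearMap.funLeft ℂ ℂ τ)
    change L (θ γ) ∈ W
    rw [← h4 γ, blockPart_eq, map_sum]
    refine W.sum_mem fun χ _ => ?_
    split_ifs with h
    exacts [by rw [map_smul]; exact W.smul_mem _ (hW χ h), by simp]
  have h7 : ∀ γ δ : PtB (eB M b), ev (rho p (θ γ + fun a => θ γ (τ a))) (lfi δ.1.out.1) =
      (if γ.1 = δ.1 then 1 else 0) + if γ.1 = π δ.1 then 1 else 0 := fun γ δ => by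
    rw [ev_lfi_congr (isClassFunction_rho (hc' γ)) (hc' γ) (rho_rho _) δ.1.out.2.idem, ev_add_left,
      ← ev_lfi_domCongr τ (hc γ) δ.1.out.2.idem, h5 _ _ δ.1.out.2, h5 _ _ (ht δ.1)]
    simp only [eqv_out_iff, h1]
  choose r hr using fun c : univ.image g => mem_image.1 c.2
  have h8 : LinearIndependent ℂ fun c : univ.image g => (⟨_, h6 (r c)⟩ : W) := by
    refine LinearIndependent.of_comp W.subtype (Fintype.linearIndependent_iff.2 fun a ha c => ?_)
    have := congrArg (fun η => ev η (lfi (r c).1.out.1)) ha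
    simp only [ev_sum_left, ev_smul_left, Function.comp, Submodule.subtype_apply, h7, ev_zero_left] at this
    rw [sum_eq_single c (fun d _ hd => ?_) (by simp), mul_eq_zero] at this
    · refine this.resolve_right ?_
      rw [if_pos rfl]; split_ifs <;> norm_num
    · rw [if_neg, if_neg, add_zero, mul_zero] <;> refine fun e => hd (Subtype.ext ?_) <;> rw [← (hr c).2, ← (hr d).2]
      · simp only [g]; rw [e, h2, Sym2.eq_swap]
      · simp only [g]; rw [e]
  have h9 := h8.fintype_card_le_finrank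
  rw [← card_PtB (p := p) hb, Nat.card_eq_fintype_card, ← card_univ]
  refine (card_le_mul_card_image (f := g) _ 2 fun c hc => ?_).trans (by simpa using h9)
  obtain ⟨γ, -, rfl⟩ := mem_image.1 hc
  refine (card_le_card_of_injOn (t := {γ.1, π γ.1}) Subtype.val (fun δ hδ => ?_) Subtype.val_injective.injOn).trans
    card_le_two
  have := (mem_filter.1 hδ).2
  simp only [g, Sym2.eq_iff] at this
  rcases this with h | h <;> simp [h.1]

end Idx

end Cfsg.Agent.SymC
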